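import Cfsg.Agent.H612.TI34.Abs

/-!
# S4819, S4820, row `PSL₃(4)`: `GoalSixN` (helper612)
-/

set_option autoImplicit false
set_option linter.unusedSectionVars false

namespace Cfsg.Agent.H612.TI34

open Cfsg Cfsg.Agent.Characters Cfsg.Agent.H155.TI

universe u

section

variable {Γ : Type u} [Group Γ] [Finite Γ] {Z L P H : Subgroup Γ} {x d a b : Γ}

theorem comm_P (F : Frame Z L P H x d a b) {y y' : Γ} (hy : y ∈ P) (hy' : y' ∈ P) : y * y' = y' * y := by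
  have : Fact (Nat.Prime 3) := ⟨by norm_num⟩
  have h := IsPGroup.isMulCommutative_of_card_eq_prime_sq (p := 3) (G := P) (by rw [F.Pc]; norm_num)
  exact congrArg Subtype.val (h.is_comm.comm ⟨y, hy⟩ ⟨y', hy'⟩)

theorem cz (F : Frame Z L P H x d a b) {z : Γ} (hz : z ∈ Z) (g : Γ) : z * g = g * z :=
  (Subgroup.mem_center_iff.1 (F.Zc hz) g).symm

theorem eq_one_Z (F : Frame Z L P H x d a b) {z : Γ} (hz : z ∈ Z) (h3 : z ^ 3 = 1) : z = 1 := by
  have h1 : (⟨z, hz⟩ : Z) ^ (Nat.card Z) = 1 := pow_card_eq_one'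
  have h2 : z ^ Nat.card Z = 1 := congrArg Subtype.val h1
  have h4 : Nat.Coprime 3 (Nat.card Z) := (Nat.Prime.coprime_iff_not_dvd (by norm_num)).2 F.Z3
  have h5 : z ^ Nat.gcd 3 (Nat.card Z) = 1 := pow_gcd_eq_one.2 ⟨h3, h2⟩
  rwa [h4, pow_one] at h5

/-- `d` is not central -/
theorem dx_ne (F : Frame Z L P H x d a b) : d * x * d⁻¹ ≠ x := by
  intro h
  rw [F.dinv x F.xP] at h
  have h3 := F.P3 x F.xP
  have h4 : x * x = 1 := by
    calc x * x = x * x⁻¹ := by rw [h]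
      _ = 1 := mul_inv_cancel x
  apply F.x1
  calc x = x ^ 3 * (x * x)⁻¹ := by group
    _ = 1 := by rw [h3, h4]; group

theorem conj_d (F : Frame Z L P H x d a b) {y : Γ} (hy : y ∈ P) : y * d * y⁻¹ = d * y := by
  have h1 := F.dinv y hy
  have h3 := F.P3 y hy
  have hd : d⁻¹ = d := inv_eq_of_mul_eq_one_right F.dd
  have h2 : y * d = d * y⁻¹ := by
    rw [← h1, hd, ← mul_assoc, ← mul_assoc, F.dd, one_mul]
  rw [h2]
  have h4 : y⁻¹ * y⁻¹ = y := by
    calc y⁻¹ * y⁻¹ = (y ^ 3)⁻¹ * y := by group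
      _ = y := by rw [h3, inv_one, one_mul]
  rw [mul_assoc, h4]

/-- the commutator relation -/
def Cm (d g k : Γ) : Prop := g * k * g⁻¹ * k⁻¹ = 1 ∨ g * k * g⁻¹ * k⁻¹ = d

theorem Cm.mul_left {g g' k : Γ} (hdd : d * d = 1) (hg : g * d = d * g) (h : Cm d g k) (h' : Cm d g' k) :
    Cm d (g * g') k := by
  have h1 : g * g' * k * (g * g')⁻¹ * k⁻¹ = g * (g' * k * g'⁻¹ * k⁻¹) * g⁻¹ * (g * k * g⁻¹ * k⁻¹) := by group
  have hd : g * d * g⁻¹ = d := by rw [hg, mul_inv_cancel_right]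
  unfold Cm
  rw [h1]
  rcases h with h | h <;> rcases h' with h' | h' <;> rw [h, h']
  · left; group
  · right; rw [hd, mul_one]
  · right; group
  · left; rw [hd, hdd]

theorem Cm.mul_right {g k k' : Γ} (hdd : d * d = 1) (hk : k * d = d * k) (h : Cm d g k) (h' : Cm d g k') :
    Cm d g (k * k') := by
  have h1 : g * (k * k') * g⁻¹ * (k * k')⁻¹ = (g * k * g⁻¹ * k⁻¹) * (k * (g * k' * g⁻¹ * k'⁻¹) * k⁻¹) := by group
  have hd : k * d * k⁻¹ = d := by rw [hk, mul_inv_cancel_right]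
  unfold Cm
  rw [h1]
  rcases h with h | h <;> rcases h' with h' | h' <;> rw [h, h']
  · left; group
  · right; rw [hd, one_mul]
  · right; group
  · left; rw [hd, hdd]

theorem Cm.of_comm {g k : Γ} (h : g * k = k * g) : Cm d g k := by
  left
  rw [h]; group

theorem cm_HL (F : Frame Z L P H x d a b) {g k : Γ} (hg : g ∈ H) (hgL : g ∈ L) (hk : k ∈ H) (hkL : k ∈ L) :
    Cm d g k := by
  have hc := F.dc
  have ca := hc a F.aH
  have cb := hc b F.bH
  -- `[a, ·]` and `[b, ·]`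
  have hab : Cm d a b := Or.inr F.ab
  have hba : Cm d b a := by
    right
    have h1 : b * a * b⁻¹ * a⁻¹ = (a * b * a⁻¹ * b⁻¹)⁻¹ := by group
    rw [h1, F.ab]
    exact inv_eq_of_mul_eq_one_right F.dd
  have key : ∀ w : Γ, w * d = d * w → Cm d w a → Cm d w b → ∀ k ∈ H, k ∈ L → Cm d w k := by
    intro w hw h1 h2 k hk hkL
    have hwz : ∀ z ∈ Z, Cm d w z := fun z hz => Cm.of_comm (cz F hz w).symm
    have hwd : Cm d w d := Cm.of_comm hw
    have zd : ∀ z ∈ Z, z * d = d * z := fun z hz => cz F hz d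
    obtain ⟨z, hz, h | h | h | h | h | h | h | h⟩ := F.gen k hk hkL <;> rw [h]
    · exact hwz z hz
    · exact Cm.mul_right F.dd (zd z hz) (hwz z hz) h1
    · exact Cm.mul_right F.dd (zd z hz) (hwz z hz) h2
    · exact Cm.mul_right F.dd (zd z hz) (hwz z hz) (Cm.mul_right F.dd ca h1 h2)
    · exact Cm.mul_right F.dd (zd z hz) (hwz z hz) hwd
    · exact Cm.mul_right F.dd (zd z hz) (hwz z hz) (Cm.mul_right F.dd rfl hwd h1)
    · exact Cm.mul_right F.dd (zd z hz) (hwz z hz) (Cm.mul_right F.dd rfl hwd h2)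
    · exact Cm.mul_right F.dd (zd z hz) (hwz z hz) (Cm.mul_right F.dd rfl hwd (Cm.mul_right F.dd ca h1 h2))
  have Ka := key a ca (Cm.of_comm rfl) hab k hk hkL
  have Kb := key b cb hba (Cm.of_comm rfl) k hk hkL
  have Kd : Cm d d k := Cm.of_comm (hc k hk).symm
  obtain ⟨z, hz, h | h | h | h | h | h | h | h⟩ := F.gen g hg hgL <;> rw [h]
  · exact Cm.of_comm (cz F hz k)
  · exact Cm.mul_left F.dd (cz F hz d) (Cm.of_comm (cz F hz k)) Ka
  · exact Cm.mul_left F.dd (cz F hz d) (Cm.of_comm (cz F hz k)) Kb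
  · exact Cm.mul_left F.dd (cz F hz d) (Cm.of_comm (cz F hz k)) (Cm.mul_left F.dd ca Ka Kb)
  · exact Cm.mul_left F.dd (cz F hz d) (Cm.of_comm (cz F hz k)) Kd
  · exact Cm.mul_left F.dd (cz F hz d) (Cm.of_comm (cz F hz k)) (Cm.mul_left F.dd rfl Kd Ka)
  · exact Cm.mul_left F.dd (cz F hz d) (Cm.of_comm (cz F hz k)) (Cm.mul_left F.dd rfl Kd Kb)
  · exact Cm.mul_left F.dd (cz F hz d) (Cm.of_comm (cz F hz k)) (Cm.mul_left F.dd rfl Kd (Cm.mul_left F.dd ca Ka Kb))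

end

section

variable {Γ : Type u} [Group Γ] [Finite Γ] {Z L P H : Subgroup Γ} {x d a b : Γ}

theorem memN {g y : Γ} (hg : g ∈ Subgroup.normalizer (P : Set Γ)) (hy : y ∈ P) : g * y * g⁻¹ ∈ P :=
  (Subgroup.mem_normalizer_iff.1 hg y).1 hy

theorem nl (F : Frame Z L P H x d a b) (hZ : Z ≤ L ⊓ Subgroup.normalizer (P : Set Γ))
    (hx : x ∈ L ⊓ Subgroup.normalizer (P : Set Γ)) (hd : d ∈ L ⊓ Subgroup.normalizer (P : Set Γ)) :
    NL (Subgroup.inclusion hZ) (P.subgroupOf (L ⊓ Subgroup.normalizer (P : Set Γ))) ⟨x, hx⟩ ⟨d, hd⟩ := by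
  classical
  have hPA : P ≤ L ⊓ Subgroup.normalizer (P : Set Γ) := le_inf F.PL Subgroup.le_normalizer
  have cen : ∀ (z : Z) (w : ↥(L ⊓ Subgroup.normalizer (P : Set Γ))),
      Subgroup.inclusion hZ z * w = w * Subgroup.inclusion hZ z := fun z w => Subtype.ext (cz F z.2 w)
  have x3 : x ^ 3 = 1 := F.P3 x F.xP
  have dc : ∀ k ∈ Subgroup.normalizer (P : Set Γ), k * d * k⁻¹ * d⁻¹ ∈ P := by
    intro k hk
    obtain ⟨y, hy, h, hh, rfl⟩ := F.N k hk
    have h1 : y * h * d * (y * h)⁻¹ * d⁻¹ = d * y * d⁻¹ := by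
      have h2 : y * h * d * (y * h)⁻¹ = y * (h * d * h⁻¹) * y⁻¹ := by group
      rw [h2, F.dc h hh, mul_inv_cancel_right, conj_d F hy]
    rw [h1, F.dinv y hy]
    exact P.inv_mem hy
  have tr : ∀ y ∈ P.subgroupOf (L ⊓ Subgroup.normalizer (P : Set Γ)), y ≠ 1 →
      IsConj (⟨x, hx⟩ : ↥(L ⊓ Subgroup.normalizer (P : Set Γ))) y := by
    intro y hy hy1
    obtain ⟨h, hh, hL, h1⟩ := F.tr y (Subgroup.mem_subgroupOf.1 hy) fun h => hy1 (Subtype.ext h)
    exact isConj_iff.2 ⟨⟨h, hL, F.HN hh⟩, Subtype.ext h1⟩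
  have cP : Nat.card (P.subgroupOf (L ⊓ Subgroup.normalizer (P : Set Γ))) = 9 := by
    rw [Nat.card_congr (Subgroup.subgroupOfEquivOfLe hPA).toEquiv, F.Pc]
  have cardx : Nat.card (Subgroup.centralizer ({(⟨x, hx⟩ : ↥(L ⊓ Subgroup.normalizer (P : Set Γ)))} :
      Set ↥(L ⊓ Subgroup.normalizer (P : Set Γ)))) = 9 * Nat.card Z := by
    let f : P × Z → Subgroup.centralizer ({(⟨x, hx⟩ : ↥(L ⊓ Subgroup.normalizer (P : Set Γ)))} :
      Set ↥(L ⊓ Subgroup.normalizer (P : Set Γ))) := fun p =>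
        ⟨⟨p.1 * p.2, mul_mem (hPA p.1.2) (hZ p.2.2)⟩, by
          rw [Subgroup.mem_centralizer_singleton_iff]
          refine Subtype.ext ?_
          show (p.1 : Γ) * p.2 * x = x * (p.1 * p.2)
          rw [mul_assoc, cz F p.2.2 x, ← mul_assoc, comm_P F p.1.2 F.xP, mul_assoc]⟩
    have hf : Function.Bijective f := by
      constructor
      · rintro ⟨y, z⟩ ⟨y', z'⟩ h
        have h1 : (y : Γ) * z = y' * z' := congrArg (fun t => ((t : ↥(L ⊓ Subgroup.normalizer (P : Set Γ))) : Γ)) (congrArg Subtype.val h)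
        have h2 : (y' : Γ)⁻¹ * y = z' * (z : Γ)⁻¹ := by
          rw [eq_mul_inv_iff_mul_eq, mul_assoc, h1, inv_mul_cancel_left]
        have h3 : (y' : Γ)⁻¹ * y ∈ P := mul_mem (P.inv_mem y'.2) y.2
        have h4 : (z' : Γ) * (z : Γ)⁻¹ = 1 :=
          eq_one_Z F (mul_mem z'.2 (Z.inv_mem z.2)) (by rw [← h2]; exact F.P3 _ h3)
        rw [h4, inv_mul_eq_one] at h2
        rw [mul_inv_eq_one] at h4
        exact Prod.ext (Subtype.ext h2.symm) (Subtype.ext h4.symm)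
      · rintro ⟨⟨g, hg⟩, hgx⟩
        rw [Subgroup.mem_centralizer_singleton_iff] at hgx
        have h1 : g * x = x * g := congrArg Subtype.val hgx
        obtain ⟨y, hy, z, hz, h2⟩ := F.cL g hg.1 x F.xP F.x1 h1
        exact ⟨(⟨y, hy⟩, ⟨z, hz⟩), Subtype.ext (Subtype.ext h2.symm)⟩
    rw [← Nat.card_congr (Equiv.ofBijective f hf), Nat.card_prod, F.Pc]
  have hnorm : ∀ (g y : ↥(L ⊓ Subgroup.normalizer (P : Set Γ))), y ∈ P.subgroupOf (L ⊓ Subgroup.normalizer (P : Set Γ)) →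
      g * y * g⁻¹ ∈ P.subgroupOf (L ⊓ Subgroup.normalizer (P : Set Γ)) := by
    intro g y hy
    exact Subgroup.mem_subgroupOf.2 (memN g.2.2 (Subgroup.mem_subgroupOf.1 hy))
  refine ⟨cen, ?_, cardx, cP, Subgroup.mem_subgroupOf.2 F.xP, tr, ?_, ?_, ?_, ?_, ?_, Subtype.ext F.dd, ?_, ?_⟩
  · -- order
    have h1 := Cfsg.Agent.H235.Ore.ClassList.card_class (⟨x, hx⟩ : ↥(L ⊓ Subgroup.normalizer (P : Set Γ)))
    rw [← h1, cardx]
    have h2 : Nat.card {y : ↥(L ⊓ Subgroup.normalizer (P : Set Γ)) //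
        IsConj (⟨x, hx⟩ : ↥(L ⊓ Subgroup.normalizer (P : Set Γ))) y} = 8 := by
      have h3 : Nat.card {y : P.subgroupOf (L ⊓ Subgroup.normalizer (P : Set Γ)) // y ≠ 1} = 8 := by
        have : Fintype (P.subgroupOf (L ⊓ Subgroup.normalizer (P : Set Γ))) := Fintype.ofFinite _
        rw [Nat.card_eq_fintype_card, Fintype.card_subtype_compl, Fintype.card_subtype_eq,
          ← Nat.card_eq_fintype_card, cP]
      rw [← h3]
      refine Nat.card_congr ⟨fun y => ⟨⟨y.1, ?_⟩, ?_⟩, fun y => ⟨y.1.1, tr y.1.1 y.1.2 fun h => y.2 (Subtype.ext h)⟩,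
        fun _ => rfl, fun _ => rfl⟩
      · obtain ⟨g, hg⟩ := isConj_iff.1 y.2
        rw [← hg]
        exact hnorm g _ (Subgroup.mem_subgroupOf.2 F.xP)
      · intro h
        have h4 : y.1 = 1 := congrArg Subtype.val h
        have h5 := y.2
        rw [h4, isConj_one_left] at h5
        exact F.x1 (congrArg Subtype.val h5)
    rw [h2]
    ring
  · intro z hz
    rw [mul_one, isConj_one_left] at hz
    have h1 : (z : Γ) = 1 := congrArg (fun t : ↥(L ⊓ Subgroup.normalizer (P : Set Γ)) => (t : Γ)) hz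
    exact Subtype.ext h1
  · intro z hz
    obtain ⟨g, hg⟩ := isConj_iff.1 hz
    have h1 : (g : Γ) * ((z : Γ) * x) * (g : Γ)⁻¹ = x := congrArg Subtype.val hg
    have h2 : ((z : Γ) * x) ^ 3 = 1 := by
      have h3 : ((g : Γ) * ((z : Γ) * x) * (g : Γ)⁻¹) ^ 3 = (g : Γ) * ((z : Γ) * x) ^ 3 * (g : Γ)⁻¹ := conj_pow
      rw [h1, x3] at h3
      rw [eq_mul_inv_iff_mul_eq, one_mul] at h3
      exact mul_left_cancel (h3.symm.trans (mul_one _).symm)
    have h4 : ((z : Γ) * x) ^ 3 = (z : Γ) ^ 3 * x ^ 3 := (show Commute (z : Γ) x from cz F z.2 x).mul_pow 3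
    rw [h4, x3, mul_one] at h2
    exact Subtype.ext (eq_one_Z F z.2 h2)
  · intro z hz
    rw [mul_one] at hz
    obtain ⟨g, hg⟩ := isConj_iff.1 hz
    have h1 : (g : Γ) * (z : Γ) * (g : Γ)⁻¹ = d := congrArg Subtype.val hg
    rw [← cz F z.2, mul_inv_cancel_right] at h1
    apply dx_ne F
    rw [← h1, cz F z.2 x, mul_inv_cancel_right]
  · intro y hy
    exact isConj_iff.2 ⟨y, Subtype.ext (conj_d F (Subgroup.mem_subgroupOf.1 hy))⟩
  · intro k
    exact Subgroup.mem_subgroupOf.2 (dc k k.2.2)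
  · exact ⟨⟨a, F.aL, F.HN F.aH⟩, ⟨b, F.bL, F.HN F.bH⟩, Subtype.ext F.ab⟩
  · intro g h
    obtain ⟨y, hy, g', hg', e1⟩ := F.N g g.2.2
    obtain ⟨y', hy', h', hh', e2⟩ := F.N h h.2.2
    have hgL : g' ∈ L := by
      have : g' = y⁻¹ * g := by rw [e1]; group
      rw [this]; exact mul_mem (L.inv_mem (F.PL hy)) g.2.1
    have hhL : h' ∈ L := by
      have : h' = y'⁻¹ * h := by rw [e2]; group
      rw [this]; exact mul_mem (L.inv_mem (F.PL hy')) h.2.1
    -- modulo `P`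
    have key : (g : Γ) * h * (g : Γ)⁻¹ * (h : Γ)⁻¹ * (g' * h' * g'⁻¹ * h'⁻¹)⁻¹ ∈ P := by
      rw [e1, e2]
      have nP : ∀ w ∈ Subgroup.normalizer (P : Set Γ), ∀ t ∈ P, w * t * w⁻¹ ∈ P := fun w hw t ht => memN hw ht
      have ng := F.HN hg'
      have nh := F.HN hh'
      have h3 : y * g' * (y' * h') * (y * g')⁻¹ * (y' * h')⁻¹ * (g' * h' * g'⁻¹ * h'⁻¹)⁻¹ =
          y * (g' * y' * g'⁻¹) * ((g' * h' * g'⁻¹) * y⁻¹ * (g' * h' * g'⁻¹)⁻¹) *
            ((g' * h' * g'⁻¹ * h'⁻¹) * y'⁻¹ * (g' * h' * g'⁻¹ * h'⁻¹)⁻¹) := by group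
      rw [h3]
      have n1 : g' * h' * g'⁻¹ ∈ Subgroup.normalizer (P : Set Γ) := mul_mem (mul_mem ng nh) (inv_mem ng)
      exact mul_mem (mul_mem (mul_mem hy (nP _ ng _ hy')) (nP _ n1 _ (P.inv_mem hy)))
        (nP _ (mul_mem n1 (inv_mem nh)) _ (P.inv_mem hy'))
    rcases cm_HL F hg' hgL hh' hhL with h3 | h3
    · left
      rw [h3, inv_one, mul_one] at key
      exact Subgroup.mem_subgroupOf.2 key
    · right
      rw [h3, show d⁻¹ = d from inv_eq_of_mul_eq_one_right F.dd] at key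
      exact Subgroup.mem_subgroupOf.2 key

theorem P_normal : (P.subgroupOf (L ⊓ Subgroup.normalizer (P : Set Γ))).Normal :=
  ⟨fun y hy g => Subgroup.mem_subgroupOf.2 (memN g.2.2 (Subgroup.mem_subgroupOf.1 hy))⟩

end

/-- **GOAL SIXN** -/
theorem goalSixN : GoalSixN.{u} := by
  intro Γ _ _ Z L P H x d a b F lam hZ hx
  have : (P.subgroupOf (L ⊓ Subgroup.normalizer (P : Set Γ))).Normal := P_normal
  exact (nl F hZ hx ⟨F.dL, F.HN F.dH⟩).six lam

end Cfsg.Agent.H612.TI34
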