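import Cfsg.Agent.H612.TI34.Six

/-!
# S4819, S4820, row `PSL₃(4)`: `GoalKapN` (helper612)
-/

set_option autoImplicit false
set_option linter.unusedSectionVars false

namespace Cfsg.Agent.H612.TI34

open Cfsg Cfsg.Agent.Characters Cfsg.Agent.H155.TI Cfsg.Agent.H686.CharKit

universe u

section

variable {Γ : Type u} [Group Γ] [Finite Γ] {Z L P H : Subgroup Γ} {x d a b c r : Γ} {lam : Z →* ℂˣ}

/-- `h c h⁻¹ = z c` with `lam z = s` -/
def Sg (lam : Z →* ℂˣ) (c h : Γ) (s : ℂ) : Prop := ∃ z : Z, h * c * h⁻¹ = z * c ∧ (lam z : ℂ) = s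

theorem dcn (F : Frame Z L P H x d a b) {k : Γ} (hk : k ∈ Subgroup.normalizer (P : Set Γ)) :
    k * d * k⁻¹ * d⁻¹ ∈ P := by
  obtain ⟨y, hy, h, hh, rfl⟩ := F.N k hk
  have h1 : y * h * d * (y * h)⁻¹ * d⁻¹ = d * y * d⁻¹ := by
    have h2 : y * h * d * (y * h)⁻¹ = y * (h * d * h⁻¹) * y⁻¹ := by group
    rw [h2, F.dc h hh, mul_inv_cancel_right, conj_d F hy]
  rw [h1, F.dinv y hy]
  exact P.inv_mem hy

theorem Sg.mul (F : Frame Z L P H x d a b) {h h' : Γ} {s s' : ℂ} (h1 : Sg lam c h s) (h2 : Sg lam c h' s') :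
    Sg lam c (h * h') (s * s') := by
  obtain ⟨z, hz, hs⟩ := h1
  obtain ⟨z', hz', hs'⟩ := h2
  refine ⟨z * z', ?_, by rw [map_mul, Units.val_mul, hs, hs']⟩
  have h3 : h * h' * c * (h * h')⁻¹ = h * (h' * c * h'⁻¹) * h⁻¹ := by group
  have h4 : h * ((z' : Γ) * c) * h⁻¹ = (z' : Γ) * (h * c * h⁻¹) := by
    rw [← mul_assoc, ← cz F z'.2 h]; group
  rw [h3, hz', h4, hz, ← mul_assoc, Subgroup.coe_mul, cz F z.2 z']

theorem Sg.unique {h : Γ} {s s' : ℂ} (h1 : Sg lam c h s) (h2 : Sg lam c h s') : s = s' := by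
  obtain ⟨z, hz, hs⟩ := h1
  obtain ⟨z', hz', hs'⟩ := h2
  have h3 : z = z' := Subtype.ext (mul_right_cancel (hz.symm.trans hz'))
  rw [← hs, ← hs', h3]

theorem Sg.one_of_mem (F : Frame Z L P H x d a b) {z : Γ} (hz : z ∈ Z) : Sg lam c z 1 :=
  ⟨1, by rw [cz F hz c, mul_inv_cancel_right, Subgroup.coe_one, one_mul], by rw [map_one, Units.val_one]⟩

theorem sg_d (F : Frame Z L P H x d a b) (N : NonNeutral Z L P H lam x c r) : Sg lam c d 1 :=
  ⟨1, by rw [← F.dc c N.cH, mul_inv_cancel_right, Subgroup.coe_one, one_mul], by rw [map_one, Units.val_one]⟩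

/-- `Γ / L` is abelian -/
theorem comm_L (hL : L.Normal) (hi : L.index = 4) (g h : Γ) : g * h * g⁻¹ * h⁻¹ ∈ L := by
  have : Fact (Nat.Prime 2) := ⟨by norm_num⟩
  have h1 := IsPGroup.isMulCommutative_of_card_eq_prime_sq (p := 2) (G := Γ ⧸ L)
    (by rw [← Subgroup.index_eq_card, hi]; norm_num)
  rw [← QuotientGroup.eq_one_iff]
  have h2 : (g : Γ ⧸ L) * (h : Γ ⧸ L) = (h : Γ ⧸ L) * (g : Γ ⧸ L) := h1.is_comm.comm _ _
  show (g : Γ ⧸ L) * (h : Γ ⧸ L) * (g : Γ ⧸ L)⁻¹ * (h : Γ ⧸ L)⁻¹ = 1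
  rw [h2]
  group

/-- an element of `H ∩ L` centralizing `P` is in `Z` -/
theorem memZ (F : Frame Z L P H x d a b) {w : Γ} (hw : w ∈ H) (hL : w ∈ L) (h : w * x = x * w) : w ∈ Z :=
  F.cH w hw hL x F.xP F.x1 h

theorem cc_mem (F : Frame Z L P H x d a b) (N : NonNeutral Z L P H lam x c r) : c * c ∈ Z := by
  refine memZ F (mul_mem N.cH N.cH) N.ccL ?_
  rw [mul_assoc, N.cP x F.xP, ← mul_assoc, N.cP x F.xP, mul_assoc]

theorem rr_mem (F : Frame Z L P H x d a b) (N : NonNeutral Z L P H lam x c r) : r * r ∈ Z := by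
  refine memZ F (mul_mem N.rH N.rH) N.rrL ?_
  rw [mul_assoc, N.rx, ← mul_assoc, N.rx, mul_assoc]

theorem sg_exists (F : Frame Z L P H x d a b) (N : NonNeutral Z L P H lam x c r) {h : Γ} (hh : h ∈ H) :
    Sg lam c h 1 ∨ Sg lam c h (-1) := by
  have h1 : h * c * h⁻¹ * c⁻¹ ∈ Z := by
    refine memZ F (mul_mem (mul_mem (mul_mem hh N.cH) (H.inv_mem hh)) (H.inv_mem N.cH)) (comm_L F.Ln N.idx h c) ?_
    have h2 : h⁻¹ * x * h ∈ P := by
      have := memN (inv_mem (F.HN hh)) F.xP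
      rwa [inv_inv] at this
    have h3 : c * (h⁻¹ * x * h) = (h⁻¹ * x * h) * c := N.cP _ h2
    have h4 : c⁻¹ * x = x * c⁻¹ := by
      have := N.cP x F.xP
      calc c⁻¹ * x = c⁻¹ * (x * c) * c⁻¹ := by group
        _ = x * c⁻¹ := by rw [← this]; group
    calc h * c * h⁻¹ * c⁻¹ * x = h * c * h⁻¹ * (c⁻¹ * x) := by group
      _ = h * (c * (h⁻¹ * x * h)) * h⁻¹ * c⁻¹ := by rw [h4]; group
      _ = x * (h * c * h⁻¹ * c⁻¹) := by rw [h3]; group
  have h5 : h * c * h⁻¹ = (⟨_, h1⟩ : Z) * c := by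
    show h * c * h⁻¹ = h * c * h⁻¹ * c⁻¹ * c
    group
  have h6 : ((⟨_, h1⟩ : Z) : Γ) * ((⟨_, h1⟩ : Z) : Γ) = 1 := by
    have h7 : (h * c * h⁻¹) * (h * c * h⁻¹) = c * c := by
      have : (h * c * h⁻¹) * (h * c * h⁻¹) = h * (c * c) * h⁻¹ := by group
      rw [this, ← cz F (cc_mem F N), mul_inv_cancel_right]
    rw [h5] at h7
    have h8 : ((⟨_, h1⟩ : Z) : Γ) * c * (((⟨_, h1⟩ : Z) : Γ) * c) =
        ((⟨_, h1⟩ : Z) : Γ) * ((⟨_, h1⟩ : Z) : Γ) * (c * c) := by
      rw [mul_assoc, ← mul_assoc c, ← cz F (⟨_, h1⟩ : Z).2 c]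
      simp only [mul_assoc]
    rw [h8] at h7
    exact mul_right_cancel (h7.trans (one_mul _).symm)
  have h9 : (lam ⟨_, h1⟩ : ℂ) * (lam ⟨_, h1⟩ : ℂ) = 1 := by
    rw [← Units.val_mul, ← map_mul]
    have : (⟨_, h1⟩ : Z) * ⟨_, h1⟩ = 1 := Subtype.ext h6
    rw [this, map_one, Units.val_one]
  rcases mul_self_eq_one_iff.1 h9 with h10 | h10
  · exact Or.inl ⟨_, h5, h10⟩
  · exact Or.inr ⟨_, h5, h10⟩

theorem sg_ne {h : Γ} (h1 : Sg lam c h 1) (h2 : Sg lam c h (-1)) : False := by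
  have := h1.unique h2
  norm_num at this

theorem sg_r (N : NonNeutral Z L P H lam x c r) (F : Frame Z L P H x d a b) : Sg lam c r (-1) := by
  rcases sg_exists F N N.rH with h | h
  · exfalso
    obtain ⟨z, hz, hl⟩ := N.beta
    have h1 : Sg lam c r (lam z : ℂ) := ⟨z, hz, rfl⟩
    exact hl (Units.ext ((h1.unique h).trans Units.val_one.symm))
  · exact h

/-! ### changing the generators -/

theorem frame_swap (F : Frame Z L P H x d a b) : Frame Z L P H x d b a := by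
  have hd : d⁻¹ = d := inv_eq_of_mul_eq_one_right F.dd
  have hba : b * a = d * (a * b) := by
    have h1 : a * b = d * (b * a) := by
      calc a * b = (a * b * a⁻¹ * b⁻¹) * (b * a) := by group
        _ = d * (b * a) := by rw [F.ab]
    rw [h1, ← mul_assoc, F.dd, one_mul]
  have hab : a * b = d * (b * a) := by rw [hba, ← mul_assoc, F.dd, one_mul]
  refine { F with
    aH := F.bH, aL := F.bL, bH := F.aH, bL := F.aL, ab := ?_, aa := F.bb, bb := F.aa, gen := ?_ }
  · calc b * a * b⁻¹ * a⁻¹ = (a * b * a⁻¹ * b⁻¹)⁻¹ := by group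
      _ = d := by rw [F.ab, hd]
  · intro h hh hL
    obtain ⟨z, hz, h' | h' | h' | h' | h' | h' | h' | h'⟩ := F.gen h hh hL
    · exact ⟨z, hz, Or.inl h'⟩
    · exact ⟨z, hz, Or.inr (Or.inr (Or.inl h'))⟩
    · exact ⟨z, hz, Or.inr (Or.inl h')⟩
    · refine ⟨z, hz, Or.inr (Or.inr (Or.inr (Or.inr (Or.inr (Or.inr (Or.inr ?_))))))⟩
      rw [h', hab]
    · exact ⟨z, hz, Or.inr (Or.inr (Or.inr (Or.inr (Or.inl h'))))⟩
    · exact ⟨z, hz, Or.inr (Or.inr (Or.inr (Or.inr (Or.inr (Or.inr (Or.inl h'))))))⟩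
    · exact ⟨z, hz, Or.inr (Or.inr (Or.inr (Or.inr (Or.inr (Or.inl h')))))⟩
    · refine ⟨z, hz, Or.inr (Or.inr (Or.inr (Or.inl ?_)))⟩
      rw [h', hba]

theorem frame_mul (F : Frame Z L P H x d a b) : Frame Z L P H x d (a * b) a := by
  have hd : d⁻¹ = d := inv_eq_of_mul_eq_one_right F.dd
  have da : a * d = d * a := F.dc a F.aH
  have db : b * d = d * b := F.dc b F.bH
  have hab : a * b = d * (b * a) := by
    calc a * b = (a * b * a⁻¹ * b⁻¹) * (b * a) := by group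
      _ = d * (b * a) := by rw [F.ab]
  have hba : b * a = d * (a * b) := by rw [hab, ← mul_assoc, F.dd, one_mul]
  obtain ⟨za, hza, haa⟩ := F.aa
  obtain ⟨zb, hzb, hbb⟩ := F.bb
  -- `(a b) a = d a a b = za b`
  have haba : a * b * a = za * b := by
    calc a * b * a = a * (b * a) := by group
      _ = a * d * a * b := by rw [hba]; group
      _ = d * (a * a) * b := by rw [da]; group
      _ = (d * d) * za * b := by rw [haa]; group
      _ = za * b := by rw [F.dd, one_mul]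
  refine { F with
    aH := mul_mem F.aH F.bH, aL := mul_mem F.aL F.bL, bH := F.aH, bL := F.aL, ab := ?_, aa := ?_, bb := F.aa, gen := ?_ }
  · calc a * b * a * (a * b)⁻¹ * a⁻¹ = a * (a * b * a⁻¹ * b⁻¹)⁻¹ * a⁻¹ := by group
      _ = d := by rw [F.ab, hd, da, mul_inv_cancel_right]
  · refine ⟨za * zb, mul_mem hza hzb, ?_⟩
    calc a * b * (a * b) = (a * b * a) * b := by group
      _ = za * (b * b) := by rw [haba]; group
      _ = d * (za * zb) := by rw [hbb, ← mul_assoc, cz F hza d, mul_assoc]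
  · intro h hh hL
    have hb : b = za⁻¹ * (a * b * a) := by rw [haba]; group
    obtain ⟨z, hz, h' | h' | h' | h' | h' | h' | h' | h'⟩ := F.gen h hh hL
    · exact ⟨z, hz, Or.inl h'⟩
    · exact ⟨z, hz, Or.inr (Or.inr (Or.inl h'))⟩
    · refine ⟨z * za⁻¹, mul_mem hz (Z.inv_mem hza), Or.inr (Or.inr (Or.inr (Or.inl ?_)))⟩
      rw [h', mul_assoc, ← hb]
    · exact ⟨z, hz, Or.inr (Or.inl h')⟩
    · exact ⟨z, hz, Or.inr (Or.inr (Or.inr (Or.inr (Or.inl h'))))⟩
    · exact ⟨z, hz, Or.inr (Or.inr (Or.inr (Or.inr (Or.inr (Or.inr (Or.inl h'))))))⟩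
    · refine ⟨z * za⁻¹, mul_mem hz (Z.inv_mem hza),
        Or.inr (Or.inr (Or.inr (Or.inr (Or.inr (Or.inr (Or.inr ?_))))))⟩
      have : z * za⁻¹ * (d * (a * b * a)) = z * (d * (za⁻¹ * (a * b * a))) := by
        rw [mul_assoc z, ← mul_assoc za⁻¹ d, cz F (Z.inv_mem hza) d]; group
      rw [h', this, ← hb]
    · exact ⟨z, hz, Or.inr (Or.inr (Or.inr (Or.inr (Or.inr (Or.inl h')))))⟩

/-- normalized generators: `a` fixes `c` up to the kernel, `b` does not -/
theorem exists_frame (F : Frame Z L P H x d a b) (N : NonNeutral Z L P H lam x c r) :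
    ∃ a' b' : Γ, Frame Z L P H x d a' b' ∧ Sg lam c a' 1 ∧ Sg lam c b' (-1) := by
  rcases sg_exists F N F.aH with ha | ha
  · rcases sg_exists F N F.bH with hb | hb
    · exfalso
      -- everything is neutral
      obtain ⟨h, hh, hL, z', hz', hl⟩ := N.non
      have hs : Sg lam c h (lam z' : ℂ) := ⟨z', hz', rfl⟩
      have key : Sg lam c h 1 := by
        have hd := sg_d F N
        have m : ∀ {g g' : Γ}, Sg lam c g 1 → Sg lam c g' 1 → Sg lam c (g * g') 1 := by
          intro g g' h1 h2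
          have := h1.mul F h2
          rwa [mul_one] at this
        obtain ⟨z, hz, h' | h' | h' | h' | h' | h' | h' | h'⟩ := F.gen h hh hL <;> rw [h'] <;>
          have z1 : Sg lam c z 1 := Sg.one_of_mem F hz
        · exact z1
        · exact m z1 ha
        · exact m z1 hb
        · exact m z1 (m ha hb)
        · exact m z1 hd
        · exact m z1 (m hd ha)
        · exact m z1 (m hd hb)
        · exact m z1 (m hd (m ha hb))
      exact hl (Units.ext ((hs.unique key).trans Units.val_one.symm))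
    · exact ⟨a, b, F, ha, hb⟩
  · rcases sg_exists F N F.bH with hb | hb
    · exact ⟨b, a, frame_swap F, hb, ha⟩
    · refine ⟨a * b, a, frame_mul F, ?_, ha⟩
      have := ha.mul F hb
      rwa [neg_one_mul, neg_neg] at this

/-! ### the action of `r` -/

/-- an automorphism of `P` fixing `x` and preserving all subgroups of `P` is trivial -/
theorem r_triv (F : Frame Z L P H x d a b) (N : NonNeutral Z L P H lam x c r)
    (h : ∀ y ∈ P, r * y * r⁻¹ = y ∨ r * y * r⁻¹ = y⁻¹) : False := by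
  apply N.rP
  intro y hy
  have hfin : r * y * r⁻¹ = y → r * y = y * r := by
    intro h1
    calc r * y = (r * y * r⁻¹) * r := by group
      _ = y * r := by rw [h1]
  rcases h y hy with h1 | h1
  · exact hfin h1
  · have hxy : x * y = y * x := comm_P F F.xP hy
    have h3 : y ^ 3 = 1 := F.P3 y hy
    have h4 : r * (x * y) * r⁻¹ = x * y⁻¹ := by
      calc r * (x * y) * r⁻¹ = (r * x) * y * r⁻¹ := by group
        _ = x * (r * y * r⁻¹) := by rw [N.rx]; group
        _ = x * y⁻¹ := by rw [h1]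
    have x3 : x ^ 3 = 1 := F.P3 x F.xP
    have sq : ∀ t : Γ, t ^ 3 = 1 → t = t⁻¹ → t = 1 := by
      intro t ht h
      have : t * t = 1 := by
        calc t * t = t * t⁻¹ := by rw [← h]
          _ = 1 := mul_inv_cancel t
      calc t = t ^ 3 * (t * t)⁻¹ := by group
        _ = 1 := by rw [ht, this]; group
    rcases h (x * y) (mul_mem F.xP hy) with h5 | h5
    · rw [h4] at h5
      have h6 := sq y h3 (mul_left_cancel h5).symm
      rw [h6, mul_one, one_mul]
    · exfalso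
      rw [h4, hxy, mul_inv_rev] at h5
      have h6 := sq x x3 (mul_right_cancel h5)
      exact F.x1 h6

/-- conjugation by `r` preserves the sign -/
theorem sg_conj (F : Frame Z L P H x d a b) (N : NonNeutral Z L P H lam x c r) {h : Γ} {s : ℂ} (hh : h ∈ H)
    (hs : Sg lam c h s) : Sg lam c (r * h * r⁻¹) s := by
  have h1 : r * h * r⁻¹ ∈ H := mul_mem (mul_mem N.rH hh) (H.inv_mem N.rH)
  have h2 : r * h = (r * h * r⁻¹) * r := by group
  have h3 : Sg lam c (r * h) (-1 * s) := (sg_r N F).mul F hs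
  rcases sg_exists F N h1 with h4 | h4
  · have h5 := h4.mul F (sg_r N F)
    rw [← h2] at h5
    have h6 := h3.unique h5
    have h7 : s = 1 := by linear_combination -h6
    rw [h7]; exact h4
  · have h5 := h4.mul F (sg_r N F)
    rw [← h2] at h5
    have h6 := h3.unique h5
    have h7 : s = -1 := by linear_combination -h6
    rw [h7]; exact h4

/-- `r a r⁻¹ = d a` -/
theorem rar (F : Frame Z L P H x d a b) (N : NonNeutral Z L P H lam x c r) (ha : Sg lam c a 1)
    (hb : Sg lam c b (-1)) : r * a * r⁻¹ = d * a := by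
  have hd : d⁻¹ = d := inv_eq_of_mul_eq_one_right F.dd
  have da : a * d = d * a := F.dc a F.aH
  have db : b * d = d * b := F.dc b F.bH
  have dr : r * d = d * r := F.dc r N.rH
  have rz : ∀ z ∈ Z, r * z * r⁻¹ = z := fun z hz => by rw [← cz F hz, mul_inv_cancel_right]
  have rd : r * d * r⁻¹ = d := by rw [dr, mul_inv_cancel_right]
  have hba : b * a * b⁻¹ = d * a := by
    calc b * a * b⁻¹ = (a * b * a⁻¹ * b⁻¹)⁻¹ * a := by group
      _ = d * a := by rw [F.ab, hd]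
  have hd1 := sg_d F N
  have m : ∀ {g g' : Γ} {s s' : ℂ}, Sg lam c g s → Sg lam c g' s' → Sg lam c (g * g') (s * s') :=
    fun h1 h2 => h1.mul F h2
  have zz : ∀ {z : Γ}, z ∈ Z → Sg lam c z 1 := fun hz => Sg.one_of_mem F hz
  have LH : ∀ h ∈ H, h ∈ L → r * h * r⁻¹ ∈ H ∧ r * h * r⁻¹ ∈ L := fun h hh hL =>
    ⟨mul_mem (mul_mem N.rH hh) (H.inv_mem N.rH), F.Ln.conj_mem h hL r⟩
  -- the image of `a`
  have ra : ∃ z ∈ Z, r * a * r⁻¹ = z * a ∨ r * a * r⁻¹ = z * (d * a) := by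
    have hs := sg_conj F N F.aH ha
    obtain ⟨h1, h2⟩ := LH a F.aH F.aL
    -- `r a r⁻¹` is not in `Z ∪ Z d`
    have hne : ∀ z ∈ Z, ∀ e : Γ, e * b = b * e → r * e * r⁻¹ = e → r * a * r⁻¹ ≠ z * e := by
      intro z hz e he hre h
      have h3 : a = z * e := by
        calc a = r⁻¹ * (r * a * r⁻¹) * r := by group
          _ = r⁻¹ * (z * e) * r := by rw [h]
          _ = r⁻¹ * ((r * z * r⁻¹) * (r * e * r⁻¹)) * r := by rw [rz z hz, hre]
          _ = z * e := by group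
      have h4 : a * b * a⁻¹ * b⁻¹ = 1 := by
        rw [h3]
        have h5 : z * e * b = b * (z * e) := by rw [mul_assoc, he, ← mul_assoc, cz F hz b, mul_assoc]
        rw [h5]; group
      rw [F.ab] at h4
      apply dx_ne F
      rw [h4]; group
    obtain ⟨z, hz, h' | h' | h' | h' | h' | h' | h' | h'⟩ := F.gen _ h1 h2
    · exact absurd (h'.trans (mul_one z).symm) (hne z hz 1 (by group) (by group))
    · exact ⟨z, hz, Or.inl h'⟩
    · exfalso
      rw [h'] at hs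
      have := hs.unique (m (zz hz) hb)
      norm_num at this
    · exfalso
      rw [h'] at hs
      have := hs.unique (m (zz hz) (m ha hb))
      norm_num at this
    · exact absurd h' (hne z hz d db.symm rd)
    · exact ⟨z, hz, Or.inr h'⟩
    · exfalso
      rw [h'] at hs
      have := hs.unique (m (zz hz) (m hd1 hb))
      norm_num at this
    · exfalso
      rw [h'] at hs
      have := hs.unique (m (zz hz) (m hd1 (m ha hb)))
      norm_num at this
  -- the image of `b`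
  have rb : ∃ z ∈ Z, r * b * r⁻¹ = z * (a * b) ∨ r * b * r⁻¹ = z * (d * (a * b)) := by
    have hs := sg_conj F N F.bH hb
    obtain ⟨h1, h2⟩ := LH b F.bH F.bL
    have bad : ∀ z ∈ Z, (r * b * r⁻¹ = z * b ∨ r * b * r⁻¹ = z * (d * b)) → False := by
      intro z hz hrb
      apply r_triv F N
      -- conjugation by `r` is trivial modulo `Z ⟨d⟩`
      let Q : Γ → Prop := fun h => ∃ z ∈ Z, r * h * r⁻¹ = z * h ∨ r * h * r⁻¹ = z * (d * h)
      have Qm : ∀ {g g' : Γ}, g * d = d * g → Q g → Q g' → Q (g * g') := by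
        intro g g' hgd ⟨z₁, hz₁, e₁⟩ ⟨z₂, hz₂, e₂⟩
        refine ⟨z₁ * z₂, mul_mem hz₁ hz₂, ?_⟩
        have h3 : r * (g * g') * r⁻¹ = (r * g * r⁻¹) * (r * g' * r⁻¹) := by group
        rw [h3]
        rcases e₁ with e₁ | e₁ <;> rcases e₂ with e₂ | e₂ <;> rw [e₁, e₂]
        · left
          rw [mul_assoc z₁ g, ← mul_assoc g z₂, ← cz F hz₂ g]; simp only [mul_assoc]
        · right
          calc z₁ * g * (z₂ * (d * g')) = z₁ * (g * z₂) * d * g' := by group
            _ = z₁ * z₂ * (g * d) * g' := by rw [← cz F hz₂ g]; group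
            _ = z₁ * z₂ * (d * (g * g')) := by rw [hgd]; group
        · right
          rw [mul_assoc z₁, ← mul_assoc (d * g) z₂, ← cz F hz₂ (d * g)]; simp only [mul_assoc]
        · left
          rw [mul_assoc z₁, ← mul_assoc (d * g) z₂, ← cz F hz₂ (d * g), mul_assoc z₂, ← mul_assoc (d * g) d,
            mul_assoc d g d, hgd, ← mul_assoc d d g, F.dd, one_mul]
          simp only [mul_assoc]
      have Qz : ∀ z ∈ Z, Q z := fun z hz => ⟨1, Z.one_mem, Or.inl (by rw [rz z hz, one_mul])⟩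
      have Qd : Q d := ⟨1, Z.one_mem, Or.inl (by rw [rd, one_mul])⟩
      have Qa : Q a := ra
      have Qb : Q b := ⟨z, hz, hrb⟩
      have all : ∀ h ∈ H, h ∈ L → Q h := by
        intro h hh hL
        obtain ⟨w, hw, h' | h' | h' | h' | h' | h' | h' | h'⟩ := F.gen h hh hL <;> rw [h'] <;>
          have wd : w * d = d * w := cz F hw d
        · exact Qz w hw
        · exact Qm wd (Qz w hw) Qa
        · exact Qm wd (Qz w hw) Qb
        · exact Qm wd (Qz w hw) (Qm da Qa Qb)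
        · exact Qm wd (Qz w hw) Qd
        · exact Qm wd (Qz w hw) (Qm rfl Qd Qa)
        · exact Qm wd (Qz w hw) (Qm rfl Qd Qb)
        · exact Qm wd (Qz w hw) (Qm rfl Qd (Qm da Qa Qb))
      intro y hy
      by_cases hy1 : y = 1
      · left; rw [hy1]; group
      obtain ⟨h, hh, hL, hxy⟩ := F.tr y hy hy1
      have h3 : r * y * r⁻¹ = (r * h * r⁻¹) * x * (r * h * r⁻¹)⁻¹ := by
        have h4 : r * x * r⁻¹ = x := by rw [N.rx, mul_inv_cancel_right]
        rw [← hxy]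
        calc r * (h * x * h⁻¹) * r⁻¹ = (r * h * r⁻¹) * (r * x * r⁻¹) * (r * h * r⁻¹)⁻¹ := by group
          _ = _ := by rw [h4]
      obtain ⟨w, hw, e | e⟩ := all h hh hL
      · left
        have h5 : w * h * x * (w * h)⁻¹ = w * (h * x * h⁻¹) * w⁻¹ := by group
        rw [h3, e, h5, cz F hw, mul_inv_cancel_right, hxy]
      · right
        have h5 : w * (d * h) * x * (w * (d * h))⁻¹ = w * (d * (h * x * h⁻¹) * d⁻¹) * w⁻¹ := by group
        rw [h3, e, h5, cz F hw, mul_inv_cancel_right, hxy, F.dinv y hy]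
    obtain ⟨z, hz, h' | h' | h' | h' | h' | h' | h' | h'⟩ := F.gen _ h1 h2
    · exfalso
      rw [h'] at hs
      have := hs.unique (zz hz)
      norm_num at this
    · exfalso
      rw [h'] at hs
      have := hs.unique (m (zz hz) ha)
      norm_num at this
    · exact (bad z hz (Or.inl h')).elim
    · exact ⟨z, hz, Or.inl h'⟩
    · exfalso
      rw [h'] at hs
      have := hs.unique (m (zz hz) hd1)
      norm_num at this
    · exfalso
      rw [h'] at hs
      have := hs.unique (m (zz hz) (m hd1 ha))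
      norm_num at this
    · exact (bad z hz (Or.inr h')).elim
    · exact ⟨z, hz, Or.inr h'⟩
  -- `g = r b`, `g² ∈ a Z ⟨d⟩`
  obtain ⟨zb, hzb, hbb⟩ := F.bb
  have hg : ∃ w : Γ, w * (r * b) = r * b * w ∧ (r * b) * (r * b) = w * a := by
    obtain ⟨z, hz, e⟩ := rb
    have h1 : (r * b) * (r * b) = (r * b * r⁻¹) * (r * r) * b := by group
    have hrr := rr_mem F N
    rcases e with e | e
    · refine ⟨z * (r * r) * d * zb, ?_, ?_⟩
      · have c1 : d * (r * b) = r * b * d := (F.dc _ (mul_mem N.rH F.bH)).symm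
        have c2 := cz F (mul_mem hz hrr) (r * b)
        have c3 := cz F hzb (r * b)
        calc z * (r * r) * d * zb * (r * b) = z * (r * r) * d * (zb * (r * b)) := by group
          _ = z * (r * r) * (d * (r * b)) * zb := by rw [c3]; group
          _ = (z * (r * r) * (r * b)) * d * zb := by rw [c1]; group
          _ = _ := by rw [c2]; group
      · rw [h1, e]
        calc z * (a * b) * (r * r) * b = z * (a * b * (r * r)) * b := by group
          _ = z * (r * r) * (a * (b * b)) := by rw [← cz F hrr (a * b)]; group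
          _ = z * (r * r) * ((a * d) * zb) := by rw [hbb]; group
          _ = z * (r * r) * (d * (a * zb)) := by rw [da]; group
          _ = z * (r * r) * d * zb * a := by rw [← cz F hzb a]; group
    · refine ⟨z * (r * r) * zb, ?_, ?_⟩
      · exact cz F (mul_mem (mul_mem hz hrr) hzb) (r * b)
      · rw [h1, e]
        calc z * (d * (a * b)) * (r * r) * b = z * (d * (a * b) * (r * r)) * b := by group
          _ = z * (r * r) * d * (a * (b * b)) := by rw [← cz F hrr (d * (a * b))]; group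
          _ = z * (r * r) * d * ((a * d) * zb) := by rw [hbb]; group
          _ = z * (r * r) * (d * d) * (a * zb) := by rw [da]; group
          _ = z * (r * r) * zb * a := by rw [F.dd, ← cz F hzb a]; group
  obtain ⟨w, hw, hgg⟩ := hg
  -- `g` commutes with `a`
  have hga : (r * b) * a = a * (r * b) := by
    have h1 : (r * b) * (w * a) = (w * a) * (r * b) := by rw [← hgg]; group
    have h2 : w * ((r * b) * a) = w * (a * (r * b)) := by
      calc w * ((r * b) * a) = (w * (r * b)) * a := by group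
        _ = (r * b) * (w * a) := by rw [hw]; group
        _ = w * (a * (r * b)) := by rw [h1]; group
    exact mul_left_cancel h2
  have h1 : r * (b * a * b⁻¹) * r⁻¹ = a := by
    calc r * (b * a * b⁻¹) * r⁻¹ = ((r * b) * a) * (r * b)⁻¹ := by group
      _ = a := by rw [hga]; group
  rw [hba] at h1
  calc r * a * r⁻¹ = (r * d * r⁻¹)⁻¹ * (r * (d * a) * r⁻¹) := by group
    _ = d * a := by rw [h1, rd, hd]

/-! ### the character -/

/-- the data of the character `f` on `K` -/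
structure Chi (Z L P H : Subgroup Γ) (d c : Γ) (lam : Z →* ℂˣ) (K : Subgroup Γ) (f : Γ → ℂ) : Prop where
  cl : ∀ k ∈ K, ∀ g ∈ K, f (k * g * k⁻¹) = f g
  z : ∀ (z : Z), ∀ g ∈ K, f (z * g) = lam z * f g
  p : ∀ y ∈ P, ∀ g ∈ K, f (y * g) = f g
  d : ∀ g ∈ K, f (d * g) = - f g
  HL : ∀ h ∈ H, h ∈ L → h ∈ K
  cK : c ∈ K
  el : ∀ k ∈ K, ∃ y ∈ P, ∃ h ∈ H, h ∈ L ∧ (k = y * h ∨ k = y * h * c)

theorem zero_of {K : Subgroup Γ} {f : Γ → ℂ} (X : Chi Z L P H d c lam K f) {h g : Γ}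
    (hh : h ∈ K) (hg : g ∈ K) (e : g * h * g⁻¹ = d * h) : f h = 0 := by
  have h1 := X.cl g hg h hh
  rw [e, X.d h hh] at h1
  linear_combination -h1 / 2

/-- a non neutral element -/
theorem zero_c (F : Frame Z L P H x d a b) {K : Subgroup Γ} {f : Γ → ℂ} (X : Chi Z L P H d c lam K f) {h g : Γ}
    (hh : h ∈ H) (hL : h ∈ L) (hg : g ∈ H) (hgL : g ∈ L) (hs : Sg lam c g (-1)) (e : g * h = h * g) :
    f (h * c) = 0 := by
  obtain ⟨z, hz, hl⟩ := hs
  have hhc : h * c ∈ K := mul_mem (X.HL h hh hL) X.cK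
  have h1 := X.cl g (X.HL g hg hgL) (h * c) hhc
  have h2 : g * (h * c) * g⁻¹ = z * (h * c) := by
    calc g * (h * c) * g⁻¹ = (g * h) * c * g⁻¹ := by group
      _ = h * (g * c * g⁻¹) := by rw [e]; group
      _ = (h * z) * c := by rw [hz]; group
      _ = z * (h * c) := by rw [← cz F z.2 h]; group
  rw [h2, X.z z _ hhc, hl] at h1
  linear_combination -h1 / 2

theorem kap_core (F : Frame Z L P H x d a b) (N : NonNeutral Z L P H lam x c r) (ha : Sg lam c a 1)
    (hb : Sg lam c b (-1)) {K : Subgroup Γ} {f : Γ → ℂ} (X : Chi Z L P H d c lam K f) (k : Γ) (hk : k ∈ K)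
    : f (r * k * r⁻¹) = f k := by
  have hd : d⁻¹ = d := inv_eq_of_mul_eq_one_right F.dd
  have da : a * d = d * a := F.dc a F.aH
  have db : b * d = d * b := F.dc b F.bH
  have dr : r * d = d * r := F.dc r N.rH
  have rz : ∀ z ∈ Z, r * z * r⁻¹ = z := fun z hz => by rw [← cz F hz, mul_inv_cancel_right]
  have rd : r * d * r⁻¹ = d := by rw [dr, mul_inv_cancel_right]
  have hbab : b * a * b⁻¹ = d * a := by
    calc b * a * b⁻¹ = (a * b * a⁻¹ * b⁻¹)⁻¹ * a := by group
      _ = d * a := by rw [F.ab, hd]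
  have haba : a * b * a⁻¹ = d * b := by
    calc a * b * a⁻¹ = (a * b * a⁻¹ * b⁻¹) * b := by group
      _ = d * b := by rw [F.ab]
  have LH : ∀ h ∈ H, h ∈ L → r * h * r⁻¹ ∈ H ∧ r * h * r⁻¹ ∈ L := fun h hh hL =>
    ⟨mul_mem (mul_mem N.rH hh) (H.inv_mem N.rH), F.Ln.conj_mem h hL r⟩
  have LK : ∀ h ∈ H, h ∈ L → r * h * r⁻¹ ∈ K := fun h hh hL => X.HL _ (LH h hh hL).1 (LH h hh hL).2
  have aK := X.HL a F.aH F.aL
  have bK := X.HL b F.bH F.bL
  have dK := X.HL d F.dH F.dL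
  -- step 1 : elements of `H ∩ L`, up to `Z`
  have hP : ∀ y ∈ P, r * y * r⁻¹ ∈ P := fun y hy => memN (F.HN N.rH) hy
  have step1 : ∀ h ∈ H, h ∈ L → f (r * h * r⁻¹) = f h := by
    have both : ∀ h ∈ H, h ∈ L → ∀ g ∈ H, g ∈ L → g * h * g⁻¹ = d * h → f (r * h * r⁻¹) = f h := by
      intro h hh hL g hg hgL e
      rw [zero_of X (X.HL h hh hL) (X.HL g hg hgL) e]
      refine zero_of X (LK h hh hL) (LK g hg hgL) ?_
      calc (r * g * r⁻¹) * (r * h * r⁻¹) * (r * g * r⁻¹)⁻¹ = r * (g * h * g⁻¹) * r⁻¹ := by group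
        _ = (r * d * r⁻¹) * (r * h * r⁻¹) := by rw [e]; group
        _ = d * (r * h * r⁻¹) := by rw [rd]
    have zf : ∀ z ∈ Z, ∀ h ∈ H, h ∈ L → f (r * h * r⁻¹) = f h → f (r * (z * h) * r⁻¹) = f (z * h) := by
      intro z hz h hh hL e
      have h1 : r * (z * h) * r⁻¹ = z * (r * h * r⁻¹) := by
        calc r * (z * h) * r⁻¹ = (r * z * r⁻¹) * (r * h * r⁻¹) := by group
          _ = _ := by rw [rz z hz]
      rw [h1, X.z ⟨z, hz⟩ _ (LK h hh hL), X.z ⟨z, hz⟩ _ (X.HL h hh hL), e]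
    have dh : ∀ h : Γ, ∀ g : Γ, g * d = d * g → g * h * g⁻¹ = d * h → g * (d * h) * g⁻¹ = d * (d * h) := by
      intro h g hgd e
      calc g * (d * h) * g⁻¹ = (g * d) * h * g⁻¹ := by group
        _ = d * (g * h * g⁻¹) := by rw [hgd]; group
        _ = _ := by rw [e]
    have e3 : a * (a * b) * a⁻¹ = d * (a * b) := by
      calc a * (a * b) * a⁻¹ = a * (a * b * a⁻¹) := by group
        _ = (a * d) * b := by rw [haba]; group
        _ = d * (a * b) := by rw [da]; group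
    intro h hh hL
    obtain ⟨z, hz, h' | h' | h' | h' | h' | h' | h' | h'⟩ := F.gen h hh hL <;> rw [h']
    · rw [rz z hz]
    · exact zf z hz a F.aH F.aL (both a F.aH F.aL b F.bH F.bL hbab)
    · exact zf z hz b F.bH F.bL (both b F.bH F.bL a F.aH F.aL haba)
    · exact zf z hz _ (mul_mem F.aH F.bH) (mul_mem F.aL F.bL)
        (both _ (mul_mem F.aH F.bH) (mul_mem F.aL F.bL) a F.aH F.aL e3)
    · exact zf z hz d F.dH F.dL (by rw [rd])
    · exact zf z hz _ (mul_mem F.dH F.aH) (mul_mem F.dL F.aL)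
        (both _ (mul_mem F.dH F.aH) (mul_mem F.dL F.aL) b F.bH F.bL (dh a b db hbab))
    · exact zf z hz _ (mul_mem F.dH F.bH) (mul_mem F.dL F.bL)
        (both _ (mul_mem F.dH F.bH) (mul_mem F.dL F.bL) a F.aH F.aL (dh b a da haba))
    · exact zf z hz _ (mul_mem F.dH (mul_mem F.aH F.bH)) (mul_mem F.dL (mul_mem F.aL F.bL))
        (both _ (mul_mem F.dH (mul_mem F.aH F.bH)) (mul_mem F.dL (mul_mem F.aL F.bL)) a F.aH F.aL (dh _ a da e3))
  -- step 2 : elements `h c`
  obtain ⟨zr, hzr, hlr⟩ := sg_r N F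
  have hrc : ∀ h : Γ, r * (h * c) * r⁻¹ = zr * ((r * h * r⁻¹) * c) := by
    intro h
    calc r * (h * c) * r⁻¹ = (r * h * r⁻¹) * (r * c * r⁻¹) := by group
      _ = ((r * h * r⁻¹) * zr) * c := by rw [hzr]; group
      _ = _ := by rw [← cz F zr.2]; group
  have step2 : ∀ h ∈ H, h ∈ L → f (r * (h * c) * r⁻¹) = f (h * c) := by
    have red : ∀ h ∈ H, h ∈ L → f (r * (h * c) * r⁻¹) = - f ((r * h * r⁻¹) * c) := by
      intro h hh hL
      rw [hrc, X.z zr _ (mul_mem (LK h hh hL) X.cK), hlr]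
      ring
    have both : ∀ h ∈ H, h ∈ L → ∀ g ∈ H, g ∈ L → Sg lam c g (-1) → g * h = h * g →
        f (r * (h * c) * r⁻¹) = f (h * c) := by
      intro h hh hL g hg hgL hs e
      rw [red h hh hL, zero_c F X hh hL hg hgL hs e]
      have h1 : f ((r * h * r⁻¹) * c) = 0 := by
        refine zero_c F X (LH h hh hL).1 (LH h hh hL).2 (LH g hg hgL).1 (LH g hg hgL).2 (sg_conj F N hg hs) ?_
        calc (r * g * r⁻¹) * (r * h * r⁻¹) = r * (g * h) * r⁻¹ := by group
          _ = _ := by rw [e]; group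
      rw [h1, neg_zero]
    have zf : ∀ z ∈ Z, ∀ h ∈ H, h ∈ L → f (r * (h * c) * r⁻¹) = f (h * c) →
        f (r * (z * h * c) * r⁻¹) = f (z * h * c) := by
      intro z hz h hh hL e
      have h1 : r * (z * h * c) * r⁻¹ = z * (r * (h * c) * r⁻¹) := by
        calc r * (z * h * c) * r⁻¹ = (r * z * r⁻¹) * (r * (h * c) * r⁻¹) := by group
          _ = _ := by rw [rz z hz]
      have h2 : r * (h * c) * r⁻¹ ∈ K := by
        rw [hrc]
        refine mul_mem (X.HL _ (F.ZH zr.2) (F.ZL zr.2)) (mul_mem (LK h hh hL) X.cK)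
      rw [h1, mul_assoc z h c, X.z ⟨z, hz⟩ _ h2, X.z ⟨z, hz⟩ _ (mul_mem (X.HL h hh hL) X.cK), e]
    have hra := rar F N ha hb
    have sab : Sg lam c (a * b) (-1) := by
      have := ha.mul F hb
      rwa [one_mul] at this
    have sdb : Sg lam c (d * b) (-1) := by
      have := (sg_d F N).mul F hb
      rwa [one_mul] at this
    have sdab : Sg lam c (d * (a * b)) (-1) := by
      have := (sg_d F N).mul F sab
      rwa [one_mul] at this
    have aL2 : f (r * (a * c) * r⁻¹) = f (a * c) := by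
      rw [red a F.aH F.aL, hra, mul_assoc, X.d _ (mul_mem aK X.cK), neg_neg]
    intro h hh hL
    obtain ⟨z, hz, h' | h' | h' | h' | h' | h' | h' | h'⟩ := F.gen h hh hL <;> rw [h']
    · have := zf z hz 1 H.one_mem L.one_mem (both 1 H.one_mem L.one_mem b F.bH F.bL hb (by group))
      rwa [mul_one] at this
    · exact zf z hz a F.aH F.aL aL2
    · exact zf z hz b F.bH F.bL (both b F.bH F.bL b F.bH F.bL hb rfl)
    · exact zf z hz _ (mul_mem F.aH F.bH) (mul_mem F.aL F.bL)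
        (both _ (mul_mem F.aH F.bH) (mul_mem F.aL F.bL) _ (mul_mem F.aH F.bH) (mul_mem F.aL F.bL) sab rfl)
    · exact zf z hz d F.dH F.dL (both d F.dH F.dL b F.bH F.bL hb db)
    · refine zf z hz _ (mul_mem F.dH F.aH) (mul_mem F.dL F.aL) ?_
      have h1 : r * (d * a) * r⁻¹ = a := by
        calc r * (d * a) * r⁻¹ = (r * d * r⁻¹) * (r * a * r⁻¹) := by group
          _ = d * d * a := by rw [rd, hra]; group
          _ = a := by rw [F.dd, one_mul]
      rw [red _ (mul_mem F.dH F.aH) (mul_mem F.dL F.aL), h1, mul_assoc d a c, X.d _ (mul_mem aK X.cK)]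
    · exact zf z hz _ (mul_mem F.dH F.bH) (mul_mem F.dL F.bL)
        (both _ (mul_mem F.dH F.bH) (mul_mem F.dL F.bL) _ (mul_mem F.dH F.bH) (mul_mem F.dL F.bL) sdb rfl)
    · exact zf z hz _ (mul_mem F.dH (mul_mem F.aH F.bH)) (mul_mem F.dL (mul_mem F.aL F.bL))
        (both _ (mul_mem F.dH (mul_mem F.aH F.bH)) (mul_mem F.dL (mul_mem F.aL F.bL)) _
          (mul_mem F.dH (mul_mem F.aH F.bH)) (mul_mem F.dL (mul_mem F.aL F.bL)) sdab rfl)
  -- conclusion
  obtain ⟨y, hy, h, hh, hL, e | e⟩ := X.el k hk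
  · have h1 : r * k * r⁻¹ = (r * y * r⁻¹) * (r * h * r⁻¹) := by rw [e]; group
    rw [h1, X.p _ (hP y hy) _ (LK h hh hL), e, X.p y hy _ (X.HL h hh hL)]
    exact step1 h hh hL
  · have h1 : r * k * r⁻¹ = (r * y * r⁻¹) * (r * (h * c) * r⁻¹) := by rw [e]; group
    have h2 : r * (h * c) * r⁻¹ ∈ K := by
      rw [hrc]
      exact mul_mem (X.HL _ (F.ZH zr.2) (F.ZL zr.2)) (mul_mem (LK h hh hL) X.cK)
    rw [h1, X.p _ (hP y hy) _ h2, e, mul_assoc y h c, X.p y hy _ (mul_mem (X.HL h hh hL) X.cK)]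
    exact step2 h hh hL

theorem mem_sup (F : Frame Z L P H x d a b) (N : NonNeutral Z L P H lam x c r) {k : Γ}
    (hk : k ∈ L ⊔ Subgroup.zpowers c) : k ∈ L ∨ k * c⁻¹ ∈ L := by
  have := F.Ln
  obtain ⟨l, hl, t, ht, rfl⟩ := Subgroup.mem_sup_of_normal_left.1 hk
  obtain ⟨n, rfl⟩ := Subgroup.mem_zpowers_iff.1 ht
  have h2 : ∀ m : ℤ, c ^ (m + m) ∈ L := by
    intro m
    have h3 : c ^ (m + m) = (c * c) ^ m := by
      rw [← two_mul, zpow_mul]
      norm_num [sq]
    rw [h3]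
    exact L.zpow_mem N.ccL m
  rcases Int.even_or_odd' n with ⟨m, h | h⟩
  · left
    rw [h, two_mul]
    exact mul_mem hl (h2 m)
  · right
    have h3 : l * c ^ n * c⁻¹ = l * c ^ (m + m) := by
      rw [h, mul_assoc, zpow_add_one, mul_inv_cancel_right, two_mul]
    rw [h3]
    exact mul_mem hl (h2 m)

open Classical in
/-- extension by zero -/
noncomputable def ext (K : Subgroup Γ) (χ : K → ℂ) (g : Γ) : ℂ := if h : g ∈ K then χ ⟨g, h⟩ else 0

theorem ext_apply {K : Subgroup Γ} (χ : K → ℂ) {g : Γ} (h : g ∈ K) : ext K χ g = χ ⟨g, h⟩ := by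
  unfold ext
  rw [dif_pos h]

end

/-- **GOAL KAPN** -/
theorem goalKapN : GoalKapN.{u} := by
  intro Γ _ _ Z L P H x d a b c r F lam N hZ hK χ hχ hirr hx4 k k' hkk
  obtain ⟨a', b', F', ha', hb'⟩ := exists_frame F N
  have hdA : d ∈ L ⊓ Subgroup.normalizer (P : Set Γ) := ⟨F.dL, F.HN F.dH⟩
  have hPA : P ≤ L ⊓ Subgroup.normalizer (P : Set Γ) := le_inf F.PL Subgroup.le_normalizer
  have hxA : x ∈ L ⊓ Subgroup.normalizer (P : Set Γ) := hPA F.xP
  have : (P.subgroupOf (L ⊓ Subgroup.normalizer (P : Set Γ))).Normal := P_normal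
  -- the restriction
  let η : IrrCharacter ↥(L ⊓ Subgroup.normalizer (P : Set Γ)) := ⟨fun a => χ.1 (Subgroup.inclusion hK a), hirr⟩
  have hη : Over (Subgroup.inclusion hZ) lam (η : ↥(L ⊓ Subgroup.normalizer (P : Set Γ)) → ℂ) := by
    intro z w
    exact hχ z (Subgroup.inclusion hK w)
  have h2 := (nl F hZ hxA hdA).two lam η hη (hx4 (Subgroup.inclusion hK ⟨x, hxA⟩) rfl)
  have e1 : χ.1 1 = 2 := by
    have := h2.1
    rw [← this]
    show χ.1 1 = χ.1 (Subgroup.inclusion hK 1)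
    rw [map_one]
  have ex : χ.1 ⟨x, hK hxA⟩ = 2 := h2.2.1
  have ed : χ.1 ⟨d, hK hdA⟩ = -2 := h2.2.2
  have hcl := Core.isIrr_isClassFunction χ.2
  -- `P` in the kernel
  have eP : ∀ (y : Γ) (hy : y ∈ P), χ.1 ⟨y, hK (hPA hy)⟩ = χ.1 1 := by
    intro y hy
    by_cases hy1 : y = 1
    · have h0 : (⟨y, hK (hPA hy)⟩ : ↥((L ⊔ Subgroup.zpowers c) ⊓ Subgroup.normalizer (P : Set Γ))) = 1 :=
        Subtype.ext hy1
      rw [h0]
    obtain ⟨h, hh, hL, e⟩ := F.tr y hy hy1
    have hhK : h ∈ (L ⊔ Subgroup.zpowers c) ⊓ Subgroup.normalizer (P : Set Γ) := hK ⟨hL, F.HN hh⟩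
    have h3 : (⟨y, hK (hPA hy)⟩ : ↥((L ⊔ Subgroup.zpowers c) ⊓ Subgroup.normalizer (P : Set Γ))) =
        ⟨h, hhK⟩ * ⟨x, hK hxA⟩ * (⟨h, hhK⟩ : ↥((L ⊔ Subgroup.zpowers c) ⊓ Subgroup.normalizer (P : Set Γ)))⁻¹ :=
      Subtype.ext e.symm
    rw [h3, hcl, ex, e1]
  have kerP : ∀ y ∈ P, ∀ (hyK : y ∈ (L ⊔ Subgroup.zpowers c) ⊓ Subgroup.normalizer (P : Set Γ)) w,
      χ.1 (⟨y, hyK⟩ * w) = χ.1 w := fun y hy hyK w =>
    apply_mul_of_eq (Core.isIrr_isCharacter χ.2) (eP y hy) w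
  have kerd : ∀ w, χ.1 (⟨d, hK hdA⟩ * w) = - χ.1 w := by
    intro w
    have h3 := scal χ (g := ⟨d, hK hdA⟩) (fun k => by
      have h4 : (k : Γ) * d * (k : Γ)⁻¹ * d⁻¹ ∈ P := dcn F k.2.2
      exact eP _ h4) w
    rw [e1, ed] at h3
    linear_combination h3 / 2
  have hcK : c ∈ (L ⊔ Subgroup.zpowers c) ⊓ Subgroup.normalizer (P : Set Γ) :=
    ⟨Subgroup.mem_sup_right (Subgroup.mem_zpowers c), F.HN N.cH⟩
  have X : Chi Z L P H d c lam ((L ⊔ Subgroup.zpowers c) ⊓ Subgroup.normalizer (P : Set Γ))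
      (ext ((L ⊔ Subgroup.zpowers c) ⊓ Subgroup.normalizer (P : Set Γ)) χ.1) := by
    refine ⟨?_, ?_, ?_, ?_, ?_, hcK, ?_⟩
    · intro k hk g hg
      rw [ext_apply _ (mul_mem (mul_mem hk hg) (inv_mem hk)), ext_apply _ hg]
      exact hcl ⟨g, hg⟩ ⟨k, hk⟩
    · intro z g hg
      rw [ext_apply _ (mul_mem (hK (hZ z.2)) hg), ext_apply _ hg]
      exact hχ z ⟨g, hg⟩
    · intro y hy g hg
      rw [ext_apply _ (mul_mem (hK (hPA hy)) hg), ext_apply _ hg]
      exact kerP y hy (hK (hPA hy)) ⟨g, hg⟩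
    · intro g hg
      rw [ext_apply _ (mul_mem (hK hdA) hg), ext_apply _ hg]
      exact kerd ⟨g, hg⟩
    · intro h hh hL
      exact hK ⟨hL, F.HN hh⟩
    · intro k hk
      rcases mem_sup F N hk.1 with h | h
      · obtain ⟨y, hy, h', hh', e⟩ := F.N k hk.2
        refine ⟨y, hy, h', hh', ?_, Or.inl e⟩
        have : h' = y⁻¹ * k := by rw [e]; group
        rw [this]
        exact mul_mem (L.inv_mem (F.PL hy)) h
      · obtain ⟨y, hy, h', hh', e⟩ := F.N (k * c⁻¹) (mul_mem hk.2 (inv_mem (F.HN N.cH)))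
        refine ⟨y, hy, h', hh', ?_, Or.inr ?_⟩
        · have : h' = y⁻¹ * (k * c⁻¹) := by rw [e]; group
          rw [this]
          exact mul_mem (L.inv_mem (F.PL hy)) h
        · rw [← e, inv_mul_cancel_right]
  have h3 := kap_core F' N ha' hb' X k k.2
  rw [← hkk, ext_apply _ k'.2, ext_apply _ k.2] at h3
  exact h3

end Cfsg.Agent.H612.TI34
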