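import Cfsg.Agent.H155.TI.Fus
import Cfsg.Agent.H155.TI.Four
import Cfsg.Agent.H612.TI34.Kap

/-!
# S4819, S4820, row `PSL₃(4)`: the frame gives the index 4 data (helper612)
-/

set_option autoImplicit false
set_option linter.unusedSectionVars false
set_option linter.unusedVariables false

namespace Cfsg.Agent.H612.TI34

open Cfsg Cfsg.Agent.H155.TI
open scoped Pointwise

universe u

variable {Γ : Type u} [Group Γ] [Finite Γ] {Z L P H : Subgroup Γ} {x d a b : Γ}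

theorem Le_top {L : Subgroup Γ} {e : Γ} (h : L.index = 2) (he : e ∉ L) : Le L e = ⊤ := by
  rw [eq_top_iff]
  intro g _
  by_cases hg : g ∈ L
  · exact Subgroup.mem_sup_left hg
  · have h1 : g * e⁻¹ ∈ L := by
      rw [Subgroup.mul_mem_iff_of_index_two h, inv_mem_iff]
      tauto
    have h2 : g = (g * e⁻¹) * e := by group
    rw [h2]
    exact mul_mem (Subgroup.mem_sup_left h1) (Subgroup.mem_sup_right (Subgroup.mem_zpowers e))

theorem sq_of_two {L : Subgroup Γ} {e : Γ} (h : L.index = 2) : e * e ∈ L := by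
  rw [Subgroup.mul_mem_iff_of_index_two h]

/-- `L` has index 2 in `L⟨c⟩` -/
theorem index_Le (hL : L.Normal) {c : Γ} (hidx : L.index = 4) (hcL : c ∉ L) (hcc : c * c ∈ L) : (Le L c).index = 2 := by
  have h1 : L ≤ Le L c := le_sup_left
  have h2 : L.relIndex (Le L c) = 2 := by
    rw [Subgroup.relIndex, Subgroup.index_eq_two_iff]
    refine ⟨⟨c, Subgroup.mem_sup_right (Subgroup.mem_zpowers c)⟩, fun g => ?_⟩
    rw [Subgroup.mem_subgroupOf, Subgroup.mem_subgroupOf]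
    show Xor (((g : Γ) * c) ∈ L) ((g : Γ) ∈ L)
    rcases (mem_Le hL hcc).1 g.2 with h | ⟨l, hl, h⟩
    · right
      exact ⟨h, fun h' => hcL ((Subgroup.mul_mem_cancel_left _ h).1 h')⟩
    · left
      constructor
      · rw [h, mul_assoc]; exact mul_mem hl hcc
      · intro h'
        rw [h] at h'
        exact hcL ((Subgroup.mul_mem_cancel_left _ hl).1 h')
  have h3 := Subgroup.relIndex_mul_index h1
  rw [h2, hidx] at h3
  omega

theorem quad (F : Frame Z L P H x d a b) {K : Subgroup Γ} (hPK : P ≤ K) (hHK : H ≤ K) {c r : Γ} (hidx : L.index = 4)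
    (hcH : c ∈ H) (hrH : r ∈ H) (hcL : c ∉ L) (hrL : r ∉ L) (hcrL : c * r ∉ L) (hcc : c * c ∈ L) (hrr : r * r ∈ L)
    (hcP : ∀ y ∈ P, c * y = y * c) (hrx : r * x = x * r)
    (hZ : Z ≤ L ⊓ K) (hA : L ⊓ K ≤ Le L c ⊓ K) (hB : Le L c ⊓ K ≤ K) (hx : x ∈ L ⊓ K) (hc : c ∈ Le L c ⊓ K) (hr : r ∈ K) :
    ∃ zr : Z, r * c * r⁻¹ = zr * c ∧
      Quad (Subgroup.inclusion hZ) (Subgroup.inclusion hA) (Subgroup.inclusion hB) ⟨x, hx⟩ ⟨c, hc⟩ ⟨r, hr⟩ zr := by
  have hcx := hcP x F.xP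
  have hZr : r * c * r⁻¹ * c⁻¹ ∈ Z := by
    refine F.cH _ (mul_mem (mul_mem (mul_mem hrH hcH) (H.inv_mem hrH)) (H.inv_mem hcH)) (comm_L F.Ln hidx r c) x F.xP
      F.x1 ?_
    have h1 : c⁻¹ * x = x * c⁻¹ := by rw [inv_mul_eq_iff_eq_mul, ← mul_assoc, hcx, mul_inv_cancel_right]
    have h2 : r⁻¹ * x = x * r⁻¹ := by rw [inv_mul_eq_iff_eq_mul, ← mul_assoc, hrx, mul_inv_cancel_right]
    calc r * c * r⁻¹ * c⁻¹ * x = r * c * (r⁻¹ * (c⁻¹ * x)) := by group
      _ = r * c * (r⁻¹ * x) * c⁻¹ := by rw [h1]; group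
      _ = r * (c * x) * r⁻¹ * c⁻¹ := by rw [h2]; group
      _ = (r * x) * c * r⁻¹ * c⁻¹ := by rw [hcx]; group
      _ = x * (r * c * r⁻¹ * c⁻¹) := by rw [hrx]; group
  have hrc : r * c * r⁻¹ = (⟨_, hZr⟩ : Z) * c := by
    show r * c * r⁻¹ = r * c * r⁻¹ * c⁻¹ * c
    group
  have hrLe : r ∉ Le L c := by
    intro h
    rcases (mem_Le F.Ln hcc).1 h with h | ⟨l, hl, h⟩
    · exact hrL h
    · apply hcrL
      rw [h]
      have : c * (l * c) = (c * l * c⁻¹) * (c * c) := by group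
      rw [this]
      exact mul_mem (F.Ln.conj_mem l hl c) hcc
  have hi := index_Le F.Ln hidx hcL hcc
  refine ⟨⟨_, hZr⟩, hrc, ?_⟩
  refine ⟨⟨Subgroup.inclusion_injective hZ, Subgroup.inclusion_injective hA, ?_, fun z w => Subtype.ext (F.zcomm z.2 w)⟩,
    ⟨(Subgroup.inclusion_injective hA).comp (Subgroup.inclusion_injective hZ), Subgroup.inclusion_injective hB, ?_,
      fun z w => Subtype.ext (F.zcomm z.2 w)⟩, ?_, ?_, Subtype.ext hcx, Subtype.ext hrx, Subtype.ext hrc, ?_, ?_⟩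
  · rw [Subgroup.index_eq_two_iff]
    refine ⟨⟨c, hc⟩, fun g => ?_⟩
    have e : ∀ g : ↥(Le L c ⊓ K), g ∈ (Subgroup.inclusion hA).range ↔ (g : Γ) ∈ L := by
      intro g
      rw [Subgroup.inclusion_range, Subgroup.mem_subgroupOf, Subgroup.mem_inf]
      exact ⟨fun h => h.1, fun h => ⟨h, g.2.2⟩⟩
    rw [e, e]
    show Xor (((g : Γ) * c) ∈ L) ((g : Γ) ∈ L)
    rcases (mem_Le F.Ln hcc).1 g.2.1 with h | ⟨l, hl, h⟩
    · right
      exact ⟨h, fun h' => hcL ((Subgroup.mul_mem_cancel_left _ h).1 h')⟩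
    · left
      constructor
      · rw [h, mul_assoc]; exact mul_mem hl hcc
      · intro h'
        rw [h] at h'
        exact hcL ((Subgroup.mul_mem_cancel_left _ hl).1 h')
  · rw [Subgroup.index_eq_two_iff]
    refine ⟨⟨r, hr⟩, fun g => ?_⟩
    have e : ∀ g : K, g ∈ (Subgroup.inclusion hB).range ↔ (g : Γ) ∈ Le L c := by
      intro g
      rw [Subgroup.inclusion_range, Subgroup.mem_subgroupOf, Subgroup.mem_inf]
      exact ⟨fun h => h.1, fun h => ⟨h, g.2⟩⟩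
    rw [e, e]
    show Xor (((g : Γ) * r) ∈ Le L c) ((g : Γ) ∈ Le L c)
    rw [Subgroup.mul_mem_iff_of_index_two hi]
    by_cases hg : (g : Γ) ∈ Le L c
    · right
      exact ⟨hg, fun h => hrLe (h.1 hg)⟩
    · left
      exact ⟨⟨fun h => absurd h hg, fun h => absurd h hrLe⟩, hg⟩
  · rintro ⟨g, hg⟩
    have h1 : (g : Γ) = c := congrArg Subtype.val hg
    exact hcL (h1 ▸ g.2.1)
  · rintro ⟨g, hg⟩
    have h1 : (g : Γ) = r := congrArg Subtype.val hg
    exact hrLe (h1 ▸ g.2.1)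
  · exact ⟨⟨c * c, F.sq_mem hcH hcx hcc⟩, Subtype.ext rfl⟩
  · intro g
    exact ⟨⟨r * g * r⁻¹, F.Ln.conj_mem _ g.2.1 r, mul_mem (mul_mem hr g.2.2) (K.inv_mem hr)⟩, Subtype.ext rfl⟩

end Cfsg.Agent.H612.TI34
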