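import Cfsg.Agent.H155.TI.Defs
import Cfsg.Agent.H235.Ore.ClassList
import Cfsg.Agent.H686.CharKit
import Cfsg.Agent.Characters.SchurBound
import Cfsg.Agent.Characters.Central

/-!
# S4819, S4820, row `PSL₃(4)`: characters of `N_L(P)` over `lam`, abstract form (helper612)

* `scal` : an element which is central modulo the kernel acts as a scalar;
* `dich` : a normal subgroup `P` is in the kernel or `∑_{y ∈ P} χ (g y) = 0`;
* `col` : columns over `lam`;
* `six_abs` : the six members.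
-/

set_option autoImplicit false
set_option linter.unusedSectionVars false

namespace Cfsg.Agent.H612.TI34

open Cfsg Cfsg.Agent.Characters Cfsg.Agent.H155.TI Cfsg.Agent.H686.CharKit
open scoped ComplexConjugate

universe u

section Gen

variable {W : Type u} [Group W] [Finite W]

/-- an element which is central modulo the kernel acts as a scalar -/
theorem scal (χ : IrrCharacter W) {g : W} (h : ∀ k : W, (χ : W → ℂ) (k * g * k⁻¹ * g⁻¹) = (χ : W → ℂ) 1) (w : W) :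
    (χ : W → ℂ) (g * w) * (χ : W → ℂ) 1 = (χ : W → ℂ) g * (χ : W → ℂ) w := by
  obtain ⟨n, ρ, hirr, hρ⟩ := Core.isIrrCharacter_def.1 χ.2
  have h1 : ∀ k : W, ρ (k * g * k⁻¹ * g⁻¹) = LinearMap.id := by
    intro k
    rw [← Values.character_eq_finrank_iff, hρ, h k, ← hρ, Representation.char_one]
  have h2 : ∀ k : W, ρ g * ρ k = ρ k * ρ g := by
    intro k
    have h3 : k * g = (k * g * k⁻¹ * g⁻¹) * (g * k) := by group
    have h4 : ρ (k * g) = ρ (g * k) := by
      conv_lhs => rw [h3, map_mul, h1 k]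
      rfl
    rw [← map_mul, ← map_mul, h4]
  obtain ⟨c, hc⟩ := Central.exists_smul_of_comm ρ hirr (ρ g) h2
  have h5 : ∀ v : W, (χ : W → ℂ) (g * v) = c * (χ : W → ℂ) v := by
    intro v
    rw [← hρ]
    show LinearMap.trace ℂ _ (ρ (g * v)) = c * LinearMap.trace ℂ _ (ρ v)
    rw [map_mul, hc, smul_mul_assoc, one_mul, map_smul, smul_eq_mul]
  have h6 := h5 1
  rw [mul_one] at h6
  rw [h5 w, h6]
  ring

/-- a normal subgroup is in the kernel or the sums over its cosets vanish -/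
theorem dich (χ : IrrCharacter W) (P : Subgroup W) [P.Normal] [Fintype P] :
    (∀ y ∈ P, (χ : W → ℂ) y = (χ : W → ℂ) 1) ∨ ∀ g : W, ∑ y : P, (χ : W → ℂ) (g * y) = 0 := by
  obtain ⟨n, ρ, hirr, hρ⟩ := Core.isIrrCharacter_def.1 χ.2
  set e : Module.End ℂ (Fin n → ℂ) := ∑ y : P, ρ (y : W) with he
  have h1 : ∀ k : W, e * ρ k = ρ k * e := by
    intro k
    rw [he, Finset.sum_mul, Finset.mul_sum]
    refine (Fintype.sum_equiv (MulAut.conjNormal (H := P) k⁻¹).toEquiv _ _ fun y => ?_)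
    rw [← map_mul, ← map_mul]
    congr 1
    show (y : W) * k = k * ((MulAut.conjNormal (H := P) k⁻¹ y : P) : W)
    rw [MulAut.conjNormal_apply]
    group
  obtain ⟨c, hc⟩ := Central.exists_smul_of_comm ρ hirr e h1
  have h2 : ∀ y : P, ρ (y : W) * e = e := by
    intro y
    rw [he, Finset.mul_sum]
    refine Fintype.sum_equiv (Equiv.mulLeft y) _ _ fun z => ?_
    rw [← map_mul]
    rfl
  by_cases h0 : c = 0
  · right
    intro g
    have h3 : ρ g * e = 0 := by rw [hc, h0, zero_smul, mul_zero]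
    have h4 := congrArg (LinearMap.trace ℂ (Fin n → ℂ)) h3
    rw [map_zero, he, Finset.mul_sum, map_sum] at h4
    rw [← h4]
    refine Finset.sum_congr rfl fun y _ => ?_
    rw [← hρ, ← map_mul]
    rfl
  · left
    intro y hy
    have h3 := h2 ⟨y, hy⟩
    rw [hc, mul_smul_comm, mul_one] at h3
    have h4 : ρ y = 1 := by
      have := congrArg (fun f => c⁻¹ • f) h3
      simpa only [smul_smul, inv_mul_cancel₀ h0, one_smul] using this
    rw [← hρ]
    have h5 : ρ 1 = 1 := map_one ρ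
    show LinearMap.trace ℂ _ (ρ y) = LinearMap.trace ℂ _ (ρ 1)
    rw [h4, h5]

variable {Z : Type u} [Group Z] [Finite Z] {j : Z →* W}

/-- the central character -/
theorem central (hZ : ∀ z w, j z * w = w * j z) (χ : IrrCharacter W) (z : Z) (w : W) :
    (χ : W → ℂ) (j z * w) * (χ : W → ℂ) 1 = (χ : W → ℂ) (j z) * (χ : W → ℂ) w := by
  refine scal χ (fun k => ?_) w
  have : k * j z * k⁻¹ * (j z)⁻¹ = 1 := by rw [← hZ z k]; group
  rw [this]

/-- the projection onto the characters over `lam` -/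
theorem proj (hZ : ∀ z w, j z * w = w * j z) (lam : Z →* ℂˣ) [Fintype Z] (χ : IrrCharacter W) (y : W)
    [Decidable (Over j lam (χ : W → ℂ))] :
    ∑ z : Z, ((lam z)⁻¹ : ℂˣ) * (χ : W → ℂ) (j z * y) =
      if Over j lam (χ : W → ℂ) then (Nat.card Z : ℂ) * (χ : W → ℂ) y else 0 := by
  have h1 := Core.isIrr_apply_one_ne_zero χ.2
  split_ifs with h
  · rw [Finset.sum_congr rfl fun z _ => by rw [h z y, ← mul_assoc, Units.inv_mul, one_mul], Finset.sum_const,
      nsmul_eq_mul, Finset.card_univ, Nat.card_eq_fintype_card]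
  · -- there is `z₀` with `χ (j z₀) ≠ lam z₀ χ 1`
    have h2 : ∃ z₀ : Z, (χ : W → ℂ) (j z₀) ≠ lam z₀ * (χ : W → ℂ) 1 := by
      by_contra hcon
      refine h fun z w => ?_
      have h3 := central hZ χ z w
      have h3' : (χ : W → ℂ) (j z) = lam z * (χ : W → ℂ) 1 := by_contra fun hne => hcon ⟨z, hne⟩
      rw [h3'] at h3
      have h4 : (χ : W → ℂ) 1 * (χ : W → ℂ) (j z * w) = (χ : W → ℂ) 1 * (lam z * (χ : W → ℂ) w) := by
        rw [mul_comm, h3]; ring
      exact mul_left_cancel₀ h1 h4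
    obtain ⟨z₀, hz₀⟩ := h2
    set S := ∑ z : Z, ((lam z)⁻¹ : ℂˣ) * (χ : W → ℂ) (j z * y) with hS
    have h3 : S * (lam z₀ * (χ : W → ℂ) 1) = S * (χ : W → ℂ) (j z₀) := by
      have h4 : S = ∑ z : Z, ((lam (z₀ * z))⁻¹ : ℂˣ) * (χ : W → ℂ) (j (z₀ * z) * y) := by
        rw [hS]
        exact (Fintype.sum_equiv (Equiv.mulLeft z₀) _ _ fun z => rfl).symm
      conv_lhs => rw [h4]
      rw [hS, Finset.sum_mul, Finset.sum_mul]
      refine Finset.sum_congr rfl fun z _ => ?_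
      have h5 := central hZ χ z₀ (j z * y)
      rw [← mul_assoc, ← map_mul] at h5
      have h6 : (((lam (z₀ * z))⁻¹ : ℂˣ) : ℂ) * (lam z₀ : ℂ) = (((lam z)⁻¹ : ℂˣ) : ℂ) := by
        rw [map_mul, mul_inv_rev, Units.val_mul, mul_assoc, Units.inv_mul, mul_one]
      calc (((lam (z₀ * z))⁻¹ : ℂˣ) : ℂ) * (χ : W → ℂ) (j (z₀ * z) * y) * (lam z₀ * (χ : W → ℂ) 1) =
          ((((lam (z₀ * z))⁻¹ : ℂˣ) : ℂ) * (lam z₀ : ℂ)) * ((χ : W → ℂ) (j (z₀ * z) * y) * (χ : W → ℂ) 1) := by ring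
        _ = _ := by rw [h6, h5]; ring
    have h7 : S * (lam z₀ * (χ : W → ℂ) 1 - (χ : W → ℂ) (j z₀)) = 0 := by rw [mul_sub, h3, sub_self]
    rcases mul_eq_zero.1 h7 with h8 | h8
    · exact h8
    · exact absurd (sub_eq_zero.1 h8).symm hz₀

/-- the characters over `lam` -/
noncomputable def ov (j : Z →* W) (lam : Z →* ℂˣ) : Finset (IrrCharacter W) := by
  classical
  exact @Finset.filter _ (fun χ => Over j lam (χ : W → ℂ)) _ (@Finset.univ _ (@Fintype.ofFinite _ Core.finite_irr))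

theorem mem_ov {lam : Z →* ℂˣ} {χ : IrrCharacter W} : χ ∈ ov j lam ↔ Over j lam (χ : W → ℂ) := by
  classical
  unfold ov
  rw [Finset.mem_filter]
  exact ⟨fun h => h.2, fun h => ⟨@Finset.mem_univ _ (@Fintype.ofFinite _ Core.finite_irr) χ, h⟩⟩

/-- **columns over `lam`** -/
theorem col (hZ : ∀ z w, j z * w = w * j z) (lam : Z →* ℂˣ) [Fintype Z] (y y' : W)
    [∀ z : Z, Decidable (IsConj (j z * y) y')] :
    (Nat.card Z : ℂ) * ∑ χ ∈ ov j lam, (χ : W → ℂ) y * conj ((χ : W → ℂ) y') =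
      ∑ z : Z, ((lam z)⁻¹ : ℂˣ) * (if IsConj (j z * y) y' then
        (Nat.card (Subgroup.centralizer ({y'} : Set W)) : ℂ) else 0) := by
  classical
  let _ : Fintype (IrrCharacter W) := @Fintype.ofFinite _ Core.finite_irr
  have h1 : ∀ z : Z, (((lam z)⁻¹ : ℂˣ) : ℂ) * (if IsConj (j z * y) y' then
        (Nat.card (Subgroup.centralizer ({y'} : Set W)) : ℂ) else 0) =
      ∑ χ : IrrCharacter W, (((lam z)⁻¹ : ℂˣ) : ℂ) * ((χ : W → ℂ) (j z * y) * conj ((χ : W → ℂ) y')) := by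
    intro z
    rw [← col_orth (j z * y) y', Finset.mul_sum]
  rw [Finset.sum_congr rfl fun z _ => h1 z, Finset.sum_comm]
  have h3 : ∑ χ ∈ ov j lam, (χ : W → ℂ) y * conj ((χ : W → ℂ) y') =
      ∑ χ : IrrCharacter W, if Over j lam (χ : W → ℂ) then (χ : W → ℂ) y * conj ((χ : W → ℂ) y') else 0 := by
    rw [← Finset.sum_filter]
    refine Finset.sum_congr ?_ fun _ _ => rfl
    ext χ
    rw [mem_ov, Finset.mem_filter]
    exact ⟨fun h => ⟨Finset.mem_univ _, h⟩, fun h => h.2⟩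
  rw [h3, Finset.mul_sum]
  refine Finset.sum_congr rfl fun χ _ => ?_
  have h2 := proj hZ lam χ y
  rw [Finset.sum_congr rfl fun z _ => (mul_assoc _ _ _).symm, ← Finset.sum_mul, h2]
  split_ifs
  · ring
  · ring

/-- only `z = 1` contributes -/
theorem col_self (hZ : ∀ z w, j z * w = w * j z) (lam : Z →* ℂˣ) (y : W)
    (hy : ∀ z : Z, IsConj (j z * y) y → z = 1) :
    (Nat.card Z : ℂ) * ∑ χ ∈ ov j lam, (χ : W → ℂ) y * conj ((χ : W → ℂ) y) =
      Nat.card (Subgroup.centralizer ({y} : Set W)) := by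
  classical
  have : Fintype Z := Fintype.ofFinite Z
  rw [col hZ lam y y, Finset.sum_eq_single 1]
  · rw [map_one, map_one, one_mul, if_pos (IsConj.refl y), inv_one, Units.val_one, one_mul]
  · intro z _ hz
    rw [if_neg fun h => hz (hy z h), mul_zero]
  · intro h
    exact absurd (Finset.mem_univ _) h

/-- different columns -/
theorem col_ne (hZ : ∀ z w, j z * w = w * j z) (lam : Z →* ℂˣ) (y y' : W)
    (hy : ∀ z : Z, ¬ IsConj (j z * y) y') :
    ∑ χ ∈ ov j lam, (χ : W → ℂ) y * conj ((χ : W → ℂ) y') = 0 := by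
  classical
  have : Fintype Z := Fintype.ofFinite Z
  have h1 := (col hZ lam y y').trans (Finset.sum_eq_zero (fun z _ => by rw [if_neg (hy z), mul_zero]))
  rcases mul_eq_zero.1 h1 with h2 | h2
  · exact absurd h2 (by exact_mod_cast Nat.card_pos.ne')
  · exact h2

end Gen

/-- the frame: `W = N_L(P)`, `|W / Z| = 72`, `d` inverts `P`, `W / (P ⟨d⟩)` abelian, `P#` one class -/
structure NL {Z W : Type u} [Group Z] [Group W] (j : Z →* W) (P : Subgroup W) (x d : W) : Prop where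
  cen : ∀ z w, j z * w = w * j z
  card : Nat.card W = 72 * Nat.card Z
  cardx : Nat.card (Subgroup.centralizer ({x} : Set W)) = 9 * Nat.card Z
  cP : Nat.card P = 9
  xP : x ∈ P
  tr : ∀ y ∈ P, y ≠ 1 → IsConj x y
  g1 : ∀ z, IsConj (j z * 1) 1 → z = 1
  gx : ∀ z, IsConj (j z * x) x → z = 1
  gd : ∀ z, ¬ IsConj (j z * 1) d
  dP : ∀ y ∈ P, IsConj d (d * y)
  dc : ∀ k, k * d * k⁻¹ * d⁻¹ ∈ P
  dd : d * d = 1
  dab : ∃ a b, a * b * a⁻¹ * b⁻¹ = d
  ab : ∀ g h : W, g * h * g⁻¹ * h⁻¹ ∈ P ∨ g * h * g⁻¹ * h⁻¹ * d ∈ P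

section Six

variable {Z W : Type u} [Group Z] [Group W] [Finite W] {j : Z →* W} {P : Subgroup W} {x d : W}

/-- all commutators in the kernel: linear -/
theorem one_of_comm (χ : IrrCharacter W) (h : ∀ g k : W, (χ : W → ℂ) (k * g * k⁻¹ * g⁻¹) = (χ : W → ℂ) 1) :
    (χ : W → ℂ) 1 = 1 := by
  have : Fintype W := Fintype.ofFinite W
  have h0 := Core.classInner_irr_self χ.2
  have h1 : ∀ g : W, (χ : W → ℂ) g * conj ((χ : W → ℂ) g) = (χ : W → ℂ) 1 * (χ : W → ℂ) 1 := by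
    intro g
    rw [← Core.isCharacter_apply_inv (Core.isIrr_isCharacter χ.2), ← scal χ (h g) g⁻¹, mul_inv_cancel]
  rw [Core.classInner_def, Finset.sum_congr rfl fun g _ => h1 g, Finset.sum_const, nsmul_eq_mul, Finset.card_univ,
    ← Nat.card_eq_fintype_card, ← mul_assoc, inv_mul_cancel₀ Core.card_ne_zero_complex, one_mul] at h0
  obtain ⟨n, hn, hn1⟩ := Core.isIrr_apply_one χ.2
  rw [hn1] at h0 ⊢
  have h2 : n * n = 1 := by exact_mod_cast h0
  have h3 : n = 1 := Nat.eq_one_of_mul_eq_one_right h2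
  rw [h3, Nat.cast_one]

theorem NL.cases (N : NL j P x d) [P.Normal] (χ : IrrCharacter W) :
    ((χ : W → ℂ) 1 = 1 ∧ (χ : W → ℂ) x = 1 ∧ (χ : W → ℂ) d = 1) ∨
    ((χ : W → ℂ) x = (χ : W → ℂ) 1 ∧ (χ : W → ℂ) d = -(χ : W → ℂ) 1 ∧ (χ : W → ℂ) 1 ≠ 1) ∨
    (8 * (χ : W → ℂ) x = -(χ : W → ℂ) 1 ∧ (χ : W → ℂ) d = 0) := by
  classical
  have : Fintype W := Fintype.ofFinite W
  have h0 := Core.isIrr_apply_one_ne_zero χ.2
  rcases dich χ P with h | h
  · -- `P` in the kernel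
    have hx := h x N.xP
    have h1 := scal χ (g := d) (fun k => h _ (N.dc k)) d
    rw [N.dd] at h1
    have h2 : ((χ : W → ℂ) d - (χ : W → ℂ) 1) * ((χ : W → ℂ) d + (χ : W → ℂ) 1) = 0 := by
      linear_combination -h1
    rcases mul_eq_zero.1 h2 with h3 | h3
    · left
      have h3 : (χ : W → ℂ) d = (χ : W → ℂ) 1 := sub_eq_zero.1 h3
      have h4 : (χ : W → ℂ) 1 = 1 := by
        refine one_of_comm χ fun g k => ?_
        rcases N.ab k g with h5 | h5
        · exact h _ h5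
        · have h6 : k * g * k⁻¹ * g⁻¹ = (k * g * k⁻¹ * g⁻¹ * d) * d := by rw [mul_assoc _ d d, N.dd, mul_one]
          rw [h6, apply_mul_of_eq' (Core.isIrr_isCharacter χ.2) h3]
          exact h _ h5
      exact ⟨h4, hx.trans h4, h3.trans h4⟩
    · right; left
      have h3 : (χ : W → ℂ) d = -(χ : W → ℂ) 1 := by linear_combination h3
      refine ⟨hx, h3, fun h4 => ?_⟩
      obtain ⟨f, hf⟩ := Linear.exists_hom_of_isIrrCharacter χ.2 h4
      obtain ⟨a, b, hab⟩ := N.dab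
      have h5 : (χ : W → ℂ) d = 1 := by
        rw [← hab, hf]
        simp only [map_mul, map_inv]
        have : f a * f b * (f a)⁻¹ * (f b)⁻¹ = 1 := by
          rw [mul_comm (f a) (f b), mul_assoc (f b), mul_inv_cancel, mul_one, mul_inv_cancel]
        rw [this, Units.val_one]
      rw [h3, h4] at h5
      norm_num at h5
  · right; right
    have hcl := Core.isIrr_isClassFunction χ.2
    constructor
    · have h1 := h 1
      have h2 : ∀ y : P, (χ : W → ℂ) (1 * (y : W)) = if y = 1 then (χ : W → ℂ) 1 else (χ : W → ℂ) x := by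
        intro y
        rw [one_mul]
        split_ifs with hy
        · rw [hy]; rfl
        · exact (Core.classFunction_apply_eq hcl (N.tr y y.2 fun h' => hy (Subtype.ext h'))).symm
      rw [Finset.sum_congr rfl fun y _ => h2 y, Finset.sum_ite, Finset.sum_const, Finset.sum_const,
        Finset.filter_eq', if_pos (Finset.mem_univ _), Finset.card_singleton, Finset.filter_ne',
        Finset.card_erase_of_mem (Finset.mem_univ _), Finset.card_univ, ← Nat.card_eq_fintype_card, N.cP] at h1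
      norm_num at h1
      linear_combination h1
    · have h1 := h d
      have h2 : ∀ y : P, (χ : W → ℂ) (d * (y : W)) = (χ : W → ℂ) d := fun y =>
        (Core.classFunction_apply_eq hcl (N.dP y y.2)).symm
      rw [Finset.sum_congr rfl fun y _ => h2 y, Finset.sum_const, Finset.card_univ, ← Nat.card_eq_fintype_card, N.cP] at h1
      norm_num at h1
      exact h1

/-- the three kinds of characters over `lam` -/
theorem NL.count (N : NL j P x d) [P.Normal] [Finite Z] (lam : Z →* ℂˣ) :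
    ∃ c₁ : Finset (IrrCharacter W), c₁.card = 4 ∧ ∃ χ₂ χ₃ : IrrCharacter W,
      (∀ χ : IrrCharacter W, Over j lam (χ : W → ℂ) ↔ χ = χ₂ ∨ χ = χ₃ ∨ χ ∈ c₁) ∧
      (∀ χ ∈ c₁, (χ : W → ℂ) 1 = 1 ∧ (χ : W → ℂ) x = 1 ∧ (χ : W → ℂ) d = 1) ∧
      ((χ₂ : W → ℂ) 1 = 2 ∧ (χ₂ : W → ℂ) x = 2 ∧ (χ₂ : W → ℂ) d = -2) ∧
      ((χ₃ : W → ℂ) 1 = 8 ∧ (χ₃ : W → ℂ) x = -1 ∧ (χ₃ : W → ℂ) d = 0) := by
  classical
  set T := ov j lam with hT
  let n : IrrCharacter W → ℕ := fun χ => charDegree (χ : W → ℂ)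
  have hn : ∀ χ : IrrCharacter W, (χ : W → ℂ) 1 = (n χ : ℂ) := fun χ => (charDegree_irr χ).symm
  have hpos : ∀ χ : IrrCharacter W, 0 < n χ := charDegree_pos
  set T₁ := T.filter fun χ : IrrCharacter W => (χ : W → ℂ) 1 = 1 ∧ (χ : W → ℂ) x = 1 ∧ (χ : W → ℂ) d = 1 with hT₁
  set T₂ := T.filter fun χ : IrrCharacter W => (χ : W → ℂ) x = (χ : W → ℂ) 1 ∧ (χ : W → ℂ) d = -(χ : W → ℂ) 1 ∧ (χ : W → ℂ) 1 ≠ 1
    with hT₂
  set T₃ := T.filter fun χ : IrrCharacter W => 8 * (χ : W → ℂ) x = -(χ : W → ℂ) 1 ∧ (χ : W → ℂ) d = 0 with hT₃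
  have h0 : ∀ χ : IrrCharacter W, (χ : W → ℂ) 1 ≠ 0 := fun χ => Core.isIrr_apply_one_ne_zero χ.2
  have d12 : Disjoint T₁ T₂ := by
    rw [Finset.disjoint_left]
    intro χ h1 h2
    rw [hT₁, Finset.mem_filter] at h1
    rw [hT₂, Finset.mem_filter] at h2
    exact h2.2.2.2 h1.2.1
  have d123 : Disjoint (T₁ ∪ T₂) T₃ := by
    rw [Finset.disjoint_left]
    intro χ h1 h3
    rw [hT₃, Finset.mem_filter] at h3
    rw [Finset.mem_union, hT₁, hT₂, Finset.mem_filter, Finset.mem_filter] at h1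
    have h4 : (χ : W → ℂ) x = (χ : W → ℂ) 1 := by
      rcases h1 with h1 | h1
      · rw [h1.2.2.1, h1.2.1]
      · exact h1.2.1
    have h5 := h3.2.1
    rw [h4] at h5
    exact h0 χ (by linear_combination h5 / 9)
  have hU : T = (T₁ ∪ T₂) ∪ T₃ := by
    ext χ
    rw [Finset.mem_union, Finset.mem_union, hT₁, hT₂, hT₃, Finset.mem_filter, Finset.mem_filter, Finset.mem_filter]
    constructor
    · intro h
      rcases N.cases χ with h1 | h1 | h1
      · exact Or.inl (Or.inl ⟨h, h1⟩)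
      · exact Or.inl (Or.inr ⟨h, h1⟩)
      · exact Or.inr ⟨h, h1⟩
    · rintro ((h | h) | h) <;> exact h.1
  -- the members of `T₃`
  have h3 : ∀ χ ∈ T₃, ∃ m : ℕ, 0 < m ∧ n χ = 8 * m ∧ (χ : W → ℂ) x = -(m : ℂ) := by
    intro χ hχ
    rw [hT₃, Finset.mem_filter] at hχ
    have h4 : (χ : W → ℂ) x = ((-(n χ : ℚ) / 8 : ℚ) : ℂ) := by
      have := hχ.2.1
      rw [hn χ] at this
      push_cast
      linear_combination this / 8
    have h5 : IsIntegral ℤ ((χ : W → ℂ) x) := by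
      obtain ⟨k, ρ, -, hρ⟩ := Core.isIrrCharacter_def.1 χ.2
      rw [← hρ]
      exact Values.character_isIntegral ρ x
    obtain ⟨a, ha⟩ := SchurBound.exists_int_of_rat h5 h4
    have h6 : (8 * a : ℤ) = -(n χ : ℤ) := by
      have := hχ.2.1
      rw [hn χ, ha] at this
      exact_mod_cast this
    have h7 := hpos χ
    refine ⟨(-a).toNat, by omega, by omega, ?_⟩
    rw [ha]
    have h8 : (((-a).toNat : ℤ) : ℂ) = ((-a : ℤ) : ℂ) := by rw [Int.toNat_of_nonneg (by omega)]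
    rw [Int.cast_natCast] at h8
    rw [h8]
    push_cast
    ring
  have sumU : ∀ f : IrrCharacter W → ℂ, ∑ χ ∈ T, f χ = ∑ χ ∈ T₁, f χ + ∑ χ ∈ T₂, f χ + ∑ χ ∈ T₃, f χ := by
    intro f
    rw [hU, Finset.sum_union d123, Finset.sum_union d12]
  have hZ0 : (Nat.card Z : ℂ) ≠ 0 := by exact_mod_cast Nat.card_pos.ne'
  -- the three sums
  have E1 : (T₁.card : ℂ) + ((∑ χ ∈ T₂, n χ ^ 2 : ℕ) : ℂ) + ((∑ χ ∈ T₃, n χ ^ 2 : ℕ) : ℂ) = 72 := by
    have h4 := col_self N.cen lam (1 : W) N.g1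
    have h5 : Nat.card (Subgroup.centralizer ({(1 : W)} : Set W)) = Nat.card W := by
      have : Subgroup.centralizer ({(1 : W)} : Set W) = ⊤ := by
        rw [eq_top_iff]
        intro y _
        rw [Subgroup.mem_centralizer_singleton_iff]
        rw [one_mul, mul_one]
      rw [this, Nat.card_congr Subgroup.topEquiv.toEquiv]
    rw [h5, N.card] at h4
    have h6 : ∑ χ ∈ ov j lam, (χ : W → ℂ) 1 * conj ((χ : W → ℂ) 1) = 72 := by
      apply mul_left_cancel₀ hZ0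
      rw [h4]
      push_cast
      ring
    rw [← hT, sumU] at h6
    rw [← h6]
    congr 1
    · congr 1
      · rw [Finset.sum_congr rfl (g := fun _ => (1 : ℂ)), Finset.sum_const, nsmul_eq_mul, mul_one]
        intro χ hχ
        rw [hT₁, Finset.mem_filter] at hχ
        rw [hχ.2.1, map_one, mul_one]
      · push_cast
        refine Finset.sum_congr rfl fun χ _ => ?_
        rw [hn χ, Complex.conj_natCast, sq]
    · push_cast
      refine Finset.sum_congr rfl fun χ _ => ?_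
      rw [hn χ, Complex.conj_natCast, sq]
  have Ex : 64 * ((T₁.card : ℂ) + ((∑ χ ∈ T₂, n χ ^ 2 : ℕ) : ℂ)) + ((∑ χ ∈ T₃, n χ ^ 2 : ℕ) : ℂ) = 64 * 9 := by
    have h4 := col_self N.cen lam x N.gx
    rw [N.cardx] at h4
    have h6 : ∑ χ ∈ ov j lam, (χ : W → ℂ) x * conj ((χ : W → ℂ) x) = 9 := by
      apply mul_left_cancel₀ hZ0
      rw [h4]
      push_cast
      ring
    rw [← hT, sumU] at h6
    rw [← h6, mul_add, mul_add, mul_add]
    congr 1
    · congr 1
      · rw [Finset.sum_congr rfl (g := fun _ => (1 : ℂ)), Finset.sum_const, nsmul_eq_mul, mul_one]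
        intro χ hχ
        rw [hT₁, Finset.mem_filter] at hχ
        rw [hχ.2.2.1, map_one, mul_one]
      · push_cast
        congr 1
        refine Finset.sum_congr rfl fun χ hχ => ?_
        rw [hT₂, Finset.mem_filter] at hχ
        rw [hχ.2.1, hn χ, Complex.conj_natCast, sq]
    · push_cast
      rw [Finset.mul_sum]
      refine Finset.sum_congr rfl fun χ hχ => ?_
      obtain ⟨m, -, hm, hx⟩ := h3 χ hχ
      rw [hx, hm, map_neg, Complex.conj_natCast]
      push_cast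
      ring
  have Ed : (T₁.card : ℂ) = ((∑ χ ∈ T₂, n χ ^ 2 : ℕ) : ℂ) := by
    have h6 := col_ne N.cen lam (1 : W) d N.gd
    rw [← hT, sumU] at h6
    have h7 : ∑ χ ∈ T₁, (χ : W → ℂ) 1 * conj ((χ : W → ℂ) d) = T₁.card := by
      rw [Finset.sum_congr rfl (g := fun _ => (1 : ℂ)), Finset.sum_const, nsmul_eq_mul, mul_one]
      intro χ hχ
      rw [hT₁, Finset.mem_filter] at hχ
      rw [hχ.2.1, hχ.2.2.2, map_one, mul_one]
    have h8 : ∑ χ ∈ T₂, (χ : W → ℂ) 1 * conj ((χ : W → ℂ) d) = -((∑ χ ∈ T₂, n χ ^ 2 : ℕ) : ℂ) := by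
      push_cast
      rw [← Finset.sum_neg_distrib]
      refine Finset.sum_congr rfl fun χ hχ => ?_
      rw [hT₂, Finset.mem_filter] at hχ
      rw [hχ.2.2.1, hn χ, map_neg, Complex.conj_natCast]
      ring
    have h9 : ∑ χ ∈ T₃, (χ : W → ℂ) 1 * conj ((χ : W → ℂ) d) = 0 := by
      refine Finset.sum_eq_zero fun χ hχ => ?_
      rw [hT₃, Finset.mem_filter] at hχ
      rw [hχ.2.2, map_zero, mul_zero]
    rw [h7, h8, h9] at h6
    linear_combination h6
  have E1' : T₁.card + ∑ χ ∈ T₂, n χ ^ 2 + ∑ χ ∈ T₃, n χ ^ 2 = 72 := by exact_mod_cast E1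
  have Ex' : 64 * (T₁.card + ∑ χ ∈ T₂, n χ ^ 2) + ∑ χ ∈ T₃, n χ ^ 2 = 64 * 9 := by exact_mod_cast Ex
  have Ed' : T₁.card = ∑ χ ∈ T₂, n χ ^ 2 := by exact_mod_cast Ed
  have c1 : T₁.card = 4 := by omega
  have s2 : ∑ χ ∈ T₂, n χ ^ 2 = 4 := by omega
  have s3 : ∑ χ ∈ T₃, n χ ^ 2 = 64 := by omega
  have c2 : T₂.card = 1 := by
    have h4 : ∀ χ ∈ T₂, 4 ≤ n χ ^ 2 := by
      intro χ hχ
      rw [hT₂, Finset.mem_filter] at hχ
      have h5 : n χ ≠ 1 := fun h => hχ.2.2.2 (by rw [hn χ, h, Nat.cast_one])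
      have h6 := hpos χ
      nlinarith [show 2 ≤ n χ by omega]
    have h5 := Finset.card_nsmul_le_sum T₂ (fun χ => n χ ^ 2) 4 h4
    rw [s2, smul_eq_mul] at h5
    have h6 : T₂.card ≠ 0 := by
      intro h
      rw [Finset.card_eq_zero] at h
      rw [h, Finset.sum_empty] at s2
      omega
    omega
  have c3 : T₃.card = 1 := by
    have h4 : ∀ χ ∈ T₃, 64 ≤ n χ ^ 2 := by
      intro χ hχ
      obtain ⟨m, hm0, hm, -⟩ := h3 χ hχ
      rw [hm]
      nlinarith
    have h5 := Finset.card_nsmul_le_sum T₃ (fun χ => n χ ^ 2) 64 h4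
    rw [s3, smul_eq_mul] at h5
    have h6 : T₃.card ≠ 0 := by
      intro h
      rw [Finset.card_eq_zero] at h
      rw [h, Finset.sum_empty] at s3
      omega
    omega
  obtain ⟨χ₂, hχ₂⟩ := Finset.card_eq_one.1 c2
  obtain ⟨χ₃, hχ₃⟩ := Finset.card_eq_one.1 c3
  refine ⟨T₁, c1, χ₂, χ₃, ?_, fun χ hχ => by rw [hT₁, Finset.mem_filter] at hχ; exact hχ.2, ?_, ?_⟩
  · intro χ
    rw [← mem_ov, ← hT, hU, hχ₂, hχ₃]
    simp only [Finset.mem_union, Finset.mem_singleton]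
    tauto
  · have h4 : χ₂ ∈ T₂ := by rw [hχ₂]; exact Finset.mem_singleton_self _
    rw [hT₂, Finset.mem_filter] at h4
    rw [hχ₂, Finset.sum_singleton] at s2
    have h5 : n χ₂ = 2 := by
      have : n χ₂ ^ 2 = 2 ^ 2 := by rw [s2]; norm_num
      exact Nat.pow_left_injective (n := 2) (by norm_num) this
    have h6 : (χ₂ : W → ℂ) 1 = 2 := by rw [hn, h5]; norm_num
    exact ⟨h6, h4.2.1.trans h6, h4.2.2.1.trans (by rw [h6])⟩
  · have h4 : χ₃ ∈ T₃ := by rw [hχ₃]; exact Finset.mem_singleton_self _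
    obtain ⟨m, hm0, hm, hx⟩ := h3 χ₃ h4
    rw [hT₃, Finset.mem_filter] at h4
    rw [hχ₃, Finset.sum_singleton, hm] at s3
    have h5 : m = 1 := by nlinarith
    subst h5
    refine ⟨by rw [hn, hm]; norm_num, by rw [hx]; norm_num, h4.2.2⟩

theorem NL.six (N : NL j P x d) [P.Normal] [Finite Z] (lam : Z →* ℂˣ) : Six j lam x := by
  classical
  obtain ⟨c₁, h4, χ₂, χ₃, mem, h1, h2, h3⟩ := N.count lam
  refine ⟨?_, ?_, ?_⟩
  · intro χ hχ
    rcases (mem χ).1 hχ with h | h | h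
    · exact ⟨2, by rw [h, h2.2.1]; norm_num, by norm_num⟩
    · exact ⟨-1, by rw [h, h3.2.1]; norm_num, by norm_num⟩
    · exact ⟨1, by rw [(h1 χ h).2.1]; norm_num, by norm_num⟩
  · have h5 : χ₃ ∉ c₁ := fun h => by
      have := (h1 χ₃ h).1
      rw [h3.1] at this
      norm_num at this
    have h6 : (insert χ₃ c₁).card = 5 := by rw [Finset.card_insert_of_notMem h5, h4]
    have h7 : Nat.card {χ : IrrCharacter W // χ ∈ insert χ₃ c₁} = 5 := by
      rw [Nat.card_eq_fintype_card, Fintype.card_coe, h6]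
    rw [← h7]
    refine Nat.card_congr (Equiv.subtypeEquivRight fun χ => ?_)
    rw [mem, Finset.mem_insert]
    constructor
    · rintro ⟨h | h | h, hx⟩
      · exfalso
        rw [h, h2.2.1] at hx
        norm_num at hx
      · exact Or.inl h
      · exact Or.inr h
    · rintro (h | h)
      · exact ⟨Or.inr (Or.inl h), Or.inr (by rw [h, h3.2.1])⟩
      · exact ⟨Or.inr (Or.inr h), Or.inl (h1 χ h).2.1⟩
  · rw [Nat.card_eq_one_iff_unique]
    constructor
    · constructor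
      rintro ⟨χ, hχ, hx⟩ ⟨χ', hχ', hx'⟩
      have key : ∀ ψ : IrrCharacter W, Over j lam (ψ : W → ℂ) → ((ψ : W → ℂ) x = 2 ∨ (ψ : W → ℂ) x = -2) → ψ = χ₂ := by
        intro ψ hψ hx
        rcases (mem ψ).1 hψ with h | h | h
        · exact h
        · exfalso
          rw [h, h3.2.1] at hx
          norm_num at hx
        · exfalso
          rw [(h1 ψ h).2.1] at hx
          norm_num at hx
      exact Subtype.ext ((key χ hχ hx).trans (key χ' hχ' hx').symm)
    · exact ⟨⟨χ₂, (mem χ₂).2 (Or.inl rfl), Or.inl h2.2.1⟩⟩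

/-- the member of value `±2` -/
theorem NL.two (N : NL j P x d) [P.Normal] [Finite Z] (lam : Z →* ℂˣ) (χ : IrrCharacter W)
    (hχ : Over j lam (χ : W → ℂ)) (hx : (χ : W → ℂ) x ^ 2 = 4) :
    (χ : W → ℂ) 1 = 2 ∧ (χ : W → ℂ) x = 2 ∧ (χ : W → ℂ) d = -2 := by
  obtain ⟨c₁, h4, χ₂, χ₃, mem, h1, h2, h3⟩ := N.count lam
  rcases (mem χ).1 hχ with h | h | h
  · rw [h]; exact h2
  · exfalso
    rw [h, h3.2.1] at hx
    norm_num at hx
  · exfalso
    rw [(h1 χ h).2.1] at hx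
    norm_num at hx

end Six

end Cfsg.Agent.H612.TI34
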